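import Groth.Agent.Pic13.H946.Core
import Groth.Agent.Grpsch.PicGrp
import Groth.Agent.Fga.IntNum0

/-!
# The dimensions `hh k M q = dim_k H^q(X, M)` and `hq k q F c = dim_k H^q(X, F ⊗ c)`, `c` in the Picard group

* `hh k M q` (`hh_def`), a sealed form of `Module.finrank k (Coh.HH X M q)` (much faster to type check).
* `hh_iso`, `hh_zero`, `hh_mid_le`, `hh_right_le`, `hh_left_le`: isomorphisms, zero modules, short exact sequences.
* `rep c`: a chosen invertible module in the class `c`.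
* `hq_mk`, `hq_tensor`, `hq_congr`, `hq_one`, `hq_unit`.
* `hq_mid_le`, `hq_right_le`, `hq_left_le`: the inequalities of a short exact sequence of coherent modules on a
  proper scheme; `q - 1` is truncated subtraction.
* `Near a b E`: `|a - b| ≤ E` for natural numbers.
-/

set_option autoImplicit false
universe u
open CategoryTheory CategoryTheory.Limits AlgebraicGeometry Opposite TopologicalSpace

namespace K433.Hq

open Groth.Agent Groth.Agent.Ega2 Groth.Agent.Fdesc.LocGen Groth.Agent.Fga.RegSec Groth.Agent.VarietyA.EulerLES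
open Groth.Agent.Fga.PicMon Groth.Agent.CohqB.SerTw Groth.Agent.Grpsch.PicGrp
open Groth.Agent.Pic13.H946.Core (cokSeq cokSeq_shortExact support_tw)

/-- `|a - b| ≤ E`. -/
def Near (a b E : ℕ) : Prop := a ≤ b + E ∧ b ≤ a + E

theorem Near.symm {a b E : ℕ} (h : Near a b E) : Near b a E := ⟨h.2, h.1⟩

theorem Near.trans {a b c E E' : ℕ} (h : Near a b E) (h' : Near b c E') : Near a c (E + E') := by
  unfold Near at *; omega

theorem Near.mono {a b E E' : ℕ} (h : Near a b E) (h' : E ≤ E') : Near a b E' := by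
  unfold Near at *; omega

theorem Near.refl (a E : ℕ) : Near a a E := ⟨Nat.le_add_right _ _, Nat.le_add_right _ _⟩

theorem Near.of_eq {a b : ℕ} (h : a = b) (E : ℕ) : Near a b E := h ▸ Near.refl a E

theorem near_iff_abs {a b E : ℕ} : Near a b E ↔ |(a : ℤ) - b| ≤ E := by
  rw [abs_le]; unfold Near; omega

theorem Near.abs_real {a b E : ℕ} (h : Near a b E) : |(a : ℝ) - b| ≤ E := by
  have := near_iff_abs.mp h
  exact_mod_cast this

variable {X : Scheme.{u}}

/-! ### `hh` -/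

section hh

variable (k : Type u) [Field k] [X.Over (Spec (CommRingCat.of k))]

/-- `dim_k H^q(X, M)`. -/
noncomputable def hh (M : X.Modules) (q : ℕ) : ℕ := Module.finrank k (Coh.HH X M q)

theorem hh_def (M : X.Modules) (q : ℕ) : hh k M q = Module.finrank k (Coh.HH X M q) := rfl

theorem hh_iso {M N : X.Modules} (e : M ≅ N) (q : ℕ) : hh k M q = hh k N q := (hmapEquiv k X e q).finrank_eq

theorem hh_congr {M N : X.Modules} (h : mc M = mc N) (q : ℕ) : hh k M q = hh k N q := by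
  obtain ⟨e⟩ := (mc_eq_iff _ _).mp h
  exact hh_iso k e q

theorem hh_of_subsingleton {M : X.Modules} {q : ℕ} (h : Subsingleton (Coh.HH X M q)) : hh k M q = 0 :=
  Module.finrank_zero_of_subsingleton

theorem hh_zero {M : X.Modules} (h : IsZero M) (q : ℕ) : hh k M q = 0 :=
  hh_of_subsingleton k (Fga.IntNum0.HH_subsingleton_of_isZero h q)

theorem hh_mid_aux (T : ShortComplex X.Modules) (hT : T.ShortExact) (q : ℕ)
    (f1 : Module.Finite k (Coh.HH X T.X₁ q)) (f2 : Module.Finite k (Coh.HH X T.X₂ q))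
    (f3 : Module.Finite k (Coh.HH X T.X₃ q)) : hh k T.X₂ q ≤ hh k T.X₁ q + hh k T.X₃ q := by
  have h := VarietyA.EulerAdd.finrank_eq k T hT q
  have e1 := LinearMap.finrank_range_le (mapA k T.f q)
  have e2 := Submodule.finrank_le (LinearMap.range (mapA k T.g q))
  exact h.le.trans (Nat.add_le_add e1 e2)

theorem hh_right_aux (T : ShortComplex X.Modules) (hT : T.ShortExact) (q : ℕ)
    (f1 : Module.Finite k (Coh.HH X T.X₁ (q + 1))) (f2 : Module.Finite k (Coh.HH X T.X₂ q))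
    (f3 : Module.Finite k (Coh.HH X T.X₃ q)) : hh k T.X₃ q ≤ hh k T.X₂ q + hh k T.X₁ (q + 1) := by
  have h := VarietyA.EulerAdd.finrank_eq₃ k T hT q
  have e1 := LinearMap.finrank_range_le (mapA k T.g q)
  have e2 := Submodule.finrank_le (LinearMap.range (deltaA k T hT q (q + 1) rfl))
  exact h.le.trans (Nat.add_le_add e1 e2)

theorem hh_left_aux_zero (T : ShortComplex X.Modules) (hT : T.ShortExact)
    (f2 : Module.Finite k (Coh.HH X T.X₂ 0)) : hh k T.X₁ 0 ≤ hh k T.X₂ 0 := by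
  have h := VarietyA.EulerAdd.finrank_eq₀ k T hT
  have e2 := Submodule.finrank_le (LinearMap.range (mapA k T.f 0))
  exact h.le.trans e2

theorem hh_left_aux_succ (T : ShortComplex X.Modules) (hT : T.ShortExact) (q : ℕ)
    (f1 : Module.Finite k (Coh.HH X T.X₁ (q + 1))) (f2 : Module.Finite k (Coh.HH X T.X₂ (q + 1)))
    (f3 : Module.Finite k (Coh.HH X T.X₃ q)) : hh k T.X₁ (q + 1) ≤ hh k T.X₃ q + hh k T.X₂ (q + 1) := by
  have h := VarietyA.EulerAdd.finrank_eq₁ k T hT q
  have e1 := LinearMap.finrank_range_le (deltaA k T hT q (q + 1) rfl)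
  have e2 := Submodule.finrank_le (LinearMap.range (mapA k T.f (q + 1)))
  exact h.le.trans (Nat.add_le_add e1 e2)

variable [IsProper (X ↘ Spec (CommRingCat.of k))]

theorem hh_mid_le (T : ShortComplex X.Modules) (hT : T.ShortExact) (h1 : Coh.IsCoh T.X₁) (h2 : Coh.IsCoh T.X₂)
    (h3 : Coh.IsCoh T.X₃) (q : ℕ) : hh k T.X₂ q ≤ hh k T.X₁ q + hh k T.X₃ q :=
  hh_mid_aux k T hT q (S0002.result k X _ h1 q) (S0002.result k X _ h2 q) (S0002.result k X _ h3 q)

theorem hh_right_le (T : ShortComplex X.Modules) (hT : T.ShortExact) (h1 : Coh.IsCoh T.X₁) (h2 : Coh.IsCoh T.X₂)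
    (h3 : Coh.IsCoh T.X₃) (q : ℕ) : hh k T.X₃ q ≤ hh k T.X₂ q + hh k T.X₁ (q + 1) :=
  hh_right_aux k T hT q (S0002.result k X _ h1 (q + 1)) (S0002.result k X _ h2 q) (S0002.result k X _ h3 q)

theorem hh_left_le (T : ShortComplex X.Modules) (hT : T.ShortExact) (h1 : Coh.IsCoh T.X₁) (h2 : Coh.IsCoh T.X₂)
    (h3 : Coh.IsCoh T.X₃) (q : ℕ) : hh k T.X₁ q ≤ hh k T.X₂ q + hh k T.X₃ (q - 1) := by
  cases q with
  | zero => exact (hh_left_aux_zero k T hT (S0002.result k X _ h2 0)).trans (Nat.le_add_right _ _)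
  | succ q =>
    refine (hh_left_aux_succ k T hT q (S0002.result k X _ h1 (q + 1)) (S0002.result k X _ h2 (q + 1))
      (S0002.result k X _ h3 q)).trans ?_
    rw [Nat.add_sub_cancel, Nat.add_comm]

end hh

/-! ### Representatives -/

/-- A chosen invertible module in a class. -/
noncomputable def rep (c : Pic X) : X.Modules := Classical.choose (exists_mk c)

theorem rep_inv (c : Pic X) : PicF.IsInvertible (rep c) := (Classical.choose_spec (exists_mk c)).1

theorem mk_rep (c : Pic X) : mk (rep c) (rep_inv c) = c := (Classical.choose_spec (exists_mk c)).2.symm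

theorem nonempty_iso_rep {P : X.Modules} (hP : PicF.IsInvertible P) {c : Pic X} (h : mk P hP = c) :
    Nonempty (P ≅ rep c) := by
  rw [← mk_rep c] at h
  exact (mk_eq_iff _ _).mp h

theorem mc_rep {P : X.Modules} (hP : PicF.IsInvertible P) {c : Pic X} (h : mk P hP = c) : mc (rep c) = mc P :=
  ((mc_eq_iff _ _).mpr (nonempty_iso_rep hP h)).symm

theorem mc_rep_mul (a b : Pic X) : mc (rep (a * b)) = mc (rep a) * mc (rep b) := by
  rw [← mc_tensor]
  refine mc_rep (isInvertible_tensorMod (rep_inv a) (rep_inv b)) ?_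
  rw [← mk_mul_mk (rep_inv a) (rep_inv b), mk_rep, mk_rep]

theorem mc_rep_one : mc (rep (1 : Pic X)) = 1 := by
  rw [mc_rep (P := Coh.structureModule X) isInvertible_structureModule (c := 1) rfl, mc_one]

variable (k : Type u) [Field k] [X.Over (Spec (CommRingCat.of k))]

/-- `dim_k H^q(X, F ⊗ c)`. -/
noncomputable def hq (q : ℕ) (F : X.Modules) (c : Pic X) : ℕ := hh k (CohB1.tensorMod F (rep c)) q

theorem hq_eq_of_mc {q : ℕ} {F G : X.Modules} {c : Pic X} (h : mc G = mc F * mc (rep c)) :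
    hq k q F c = hh k G q :=
  hh_congr k (by rw [mc_tensor, h]) q

theorem hq_mk (q : ℕ) (F : X.Modules) {P : X.Modules} (hP : PicF.IsInvertible P) :
    hq k q F (mk P hP) = hh k (CohB1.tensorMod F P) q :=
  hq_eq_of_mc k (by rw [mc_tensor, mc_rep hP rfl])

theorem hq_one (q : ℕ) (F : X.Modules) : hq k q F 1 = hh k F q :=
  hq_eq_of_mc k (by rw [mc_rep_one, mul_one])

theorem hq_congr (q : ℕ) {F G : X.Modules} (e : Nonempty (F ≅ G)) (c : Pic X) : hq k q F c = hq k q G c :=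
  hh_congr k (by rw [mc_tensor, mc_tensor, (mc_eq_iff F G).mpr e]) q

theorem hq_tensor (q : ℕ) (F : X.Modules) {P : X.Modules} (hP : PicF.IsInvertible P) (c : Pic X) :
    hq k q (CohB1.tensorMod F P) c = hq k q F (mk P hP * c) :=
  hh_congr k (by rw [mc_tensor, mc_tensor, mc_tensor, mc_rep_mul, mc_rep hP rfl, mul_assoc]) q

theorem hq_tensor' (q : ℕ) (F : X.Modules) {P : X.Modules} (hP : PicF.IsInvertible P) (c : Pic X) :
    hq k q (CohB1.tensorMod P F) c = hq k q F (mk P hP * c) := by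
  rw [← hq_tensor]
  exact hq_congr k q ⟨Tens.swap _ _⟩ c

theorem hq_unit (q : ℕ) {P : X.Modules} (hP : PicF.IsInvertible P) :
    hq k q (Coh.structureModule X) (mk P hP) = hh k P q :=
  hq_eq_of_mc k (by rw [mc_one, one_mul, mc_rep hP rfl])

theorem hq_eq_zero (q : ℕ) {F : X.Modules} (hF : CohB1.support F = ∅) (c : Pic X) : hq k q F c = 0 := by
  have h1 : CohB1.support (CohB1.tensorMod F (rep c)) = ∅ := by rw [support_tw (rep_inv c), hF]
  exact hh_zero k (CohqB.DevSupport.isZero_of_support_eq_empty h1) q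

variable [IsProper (X ↘ Spec (CommRingCat.of k))]

theorem hq_mid_le {S : ShortComplex X.Modules} (hS : S.ShortExact) (h1 : Coh.IsCoh S.X₁) (h2 : Coh.IsCoh S.X₂)
    (h3 : Coh.IsCoh S.X₃) (q : ℕ) (c : Pic X) : hq k q S.X₂ c ≤ hq k q S.X₁ c + hq k q S.X₃ c :=
  hh_mid_le k (S.map (tw (rep c))) (shortExact_tw (rep_inv c) hS) (Fga.TwistCoh.isCoh_tensor h1 (rep_inv c))
    (Fga.TwistCoh.isCoh_tensor h2 (rep_inv c)) (Fga.TwistCoh.isCoh_tensor h3 (rep_inv c)) q

theorem hq_right_le {S : ShortComplex X.Modules} (hS : S.ShortExact) (h1 : Coh.IsCoh S.X₁) (h2 : Coh.IsCoh S.X₂)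
    (h3 : Coh.IsCoh S.X₃) (q : ℕ) (c : Pic X) : hq k q S.X₃ c ≤ hq k q S.X₂ c + hq k (q + 1) S.X₁ c :=
  hh_right_le k (S.map (tw (rep c))) (shortExact_tw (rep_inv c) hS) (Fga.TwistCoh.isCoh_tensor h1 (rep_inv c))
    (Fga.TwistCoh.isCoh_tensor h2 (rep_inv c)) (Fga.TwistCoh.isCoh_tensor h3 (rep_inv c)) q

theorem hq_left_le {S : ShortComplex X.Modules} (hS : S.ShortExact) (h1 : Coh.IsCoh S.X₁) (h2 : Coh.IsCoh S.X₂)
    (h3 : Coh.IsCoh S.X₃) (q : ℕ) (c : Pic X) : hq k q S.X₁ c ≤ hq k q S.X₂ c + hq k (q - 1) S.X₃ c :=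
  hh_left_le k (S.map (tw (rep c))) (shortExact_tw (rep_inv c) hS) (Fga.TwistCoh.isCoh_tensor h1 (rep_inv c))
    (Fga.TwistCoh.isCoh_tensor h2 (rep_inv c)) (Fga.TwistCoh.isCoh_tensor h3 (rep_inv c)) q

/-- Removing a submodule. -/
theorem near_right {S : ShortComplex X.Modules} (hS : S.ShortExact) (h1 : Coh.IsCoh S.X₁) (h2 : Coh.IsCoh S.X₂)
    (h3 : Coh.IsCoh S.X₃) (q : ℕ) (c : Pic X) :
    Near (hq k q S.X₂ c) (hq k q S.X₃ c) (hq k q S.X₁ c + hq k (q + 1) S.X₁ c) := by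
  have a := hq_mid_le k hS h1 h2 h3 q c
  have b := hq_right_le k hS h1 h2 h3 q c
  unfold Near; omega

/-- Passing to a submodule. -/
theorem near_left {S : ShortComplex X.Modules} (hS : S.ShortExact) (h1 : Coh.IsCoh S.X₁) (h2 : Coh.IsCoh S.X₂)
    (h3 : Coh.IsCoh S.X₃) (q : ℕ) (c : Pic X) :
    Near (hq k q S.X₁ c) (hq k q S.X₂ c) (hq k (q - 1) S.X₃ c + hq k q S.X₃ c) := by
  have a := hq_mid_le k hS h1 h2 h3 q c
  have b := hq_left_le k hS h1 h2 h3 q c
  unfold Near; omega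

end K433.Hq
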