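import Groth.Agent.Variety.K433.GrowthBound

/-!
# Changing the module by modules of smaller support
-/

set_option autoImplicit false
universe u v
open CategoryTheory CategoryTheory.Limits AlgebraicGeometry Opposite TopologicalSpace

namespace K433.Growth

open Groth.Agent Groth.Agent.Ega2 Groth.Agent.Fdesc.LocGen Groth.Agent.Fga.RegSec
open Groth.Agent.CohqB.SerTw Groth.Agent.Grpsch.PicGrp K433.Hq
open Groth.Agent.Pic13.H946.Core (cokSeq cokSeq_shortExact finrank_congr support_tw)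

variable {X Y : Scheme.{u}} (k : Type u) [Field k] [Y.Over (Spec (CommRingCat.of k))]
  [IsProper (Y ↘ Spec (CommRingCat.of k))]

/-- The cohomology of the source and of the target of a morphism differ by the cohomology of kernel and cokernel. -/
theorem near_hom {F G : Y.Modules} (φ : F ⟶ G) (hF : Coh.IsCoh F) (hG : Coh.IsCoh G) :
    Coh.IsCoh (kernel φ) ∧ Coh.IsCoh (cokernel φ) ∧ ∀ (q : ℕ) (c : Pic Y), Near (hq k q F c) (hq k q G c)
      ((hq k q (kernel φ) c + hq k (q + 1) (kernel φ) c) + (hq k (q - 1) (cokernel φ) c + hq k q (cokernel φ) c)) := by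
  have := Fga.HypSec.isNoetherian k Y
  have hK : Coh.IsCoh (kernel φ) := Sga67.CohBasic.isCoh_kernel _ hF hG.1
  have hC : Coh.IsCoh (cokernel φ) := isCoh_cokernel φ hF.1 hG
  refine ⟨hK, hC, fun q c => ?_⟩
  have hI : Coh.IsCoh (Abelian.coimage φ) := isCoh_cokernel (kernel.ι φ) hK.1 hF
  have h1 := near_right k (cokSeq_shortExact (kernel.ι φ)) hK hF hI q c
  let j : Abelian.coimage φ ⟶ G := Abelian.coimageImageComparison φ ≫ Abelian.image.ι φ
  have hj : Mono j := mono_comp _ _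
  have hfac : Abelian.coimage.π φ ≫ j = φ := Abelian.coimage_image_factorisation φ
  have hcj : Nonempty (cokernel j ≅ cokernel φ) := by
    have e1 : cokernel (Abelian.coimage.π φ ≫ j) ≅ cokernel j := cokernelEpiComp _ _
    exact ⟨e1.symm ≪≫ cokernelIsoOfEq hfac⟩
  have hCj : Coh.IsCoh (cokernel j) := isCoh_cokernel j hI.1 hG
  have h2 := near_left k (cokSeq_shortExact j) hI hG hCj q c
  have e3 : ∀ q, hq k q (cokernel j) c = hq k q (cokernel φ) c := fun q => hq_congr k q hcj c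
  have h3 : Near (hq k q (Abelian.coimage φ) c) (hq k q G c) (hq k (q - 1) (cokernel φ) c + hq k q (cokernel φ) c) := by
    rw [← e3, ← e3]
    exact h2
  exact Near.trans h1 h3

variable [CompactSpace X] [X.IsSeparated] {A : X.Modules} (hA : CohB1.IsAmple A)
  {f : Y ⟶ X} (hf : IsClosedMap f) {S : Set (Pic Y)} (hS : Bdd k S) {ι : Type v}

include hA hf hS

/-- A morphism whose kernel and cokernel have small support, words version. -/
theorem near_hom_list [Finite ι] (g : ι → Pic X) {e : ℕ} {F G : Y.Modules} (φ : F ⟶ G) (hF : Coh.IsCoh F)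
    (hG : Coh.IsCoh G) (hK : DimLT f e (kernel φ)) (hC : DimLT f e (cokernel φ)) (q : ℕ) :
    ∃ C : ℕ, ∀ ν ∈ S, ∀ w : List ι,
      Near (hq k q F (pull f (w.map g).prod * ν)) (hq k q G (pull f (w.map g).prod * ν)) (C * phi e w.length) := by
  obtain ⟨hKc, hCc, hn⟩ := near_hom k φ hF hG
  obtain ⟨C₁, hC₁⟩ := bound_list k hA hf hS g e hKc hK q
  obtain ⟨C₂, hC₂⟩ := bound_list k hA hf hS g e hKc hK (q + 1)
  obtain ⟨C₃, hC₃⟩ := bound_list k hA hf hS g e hCc hC (q - 1)
  obtain ⟨C₄, hC₄⟩ := bound_list k hA hf hS g e hCc hC q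
  refine ⟨(C₁ + C₂) + (C₃ + C₄), fun ν hν w => (hn q _).mono ?_⟩
  rw [add_mul, add_mul, add_mul]
  exact Nat.add_le_add (Nat.add_le_add (hC₁ ν hν w) (hC₂ ν hν w)) (Nat.add_le_add (hC₃ ν hν w) (hC₄ ν hν w))

/-- A morphism whose kernel and cokernel have small support, integer exponents. -/
theorem near_hom_zpow [Fintype ι] (g : ι → Pic X) {e : ℕ} {F G : Y.Modules} (φ : F ⟶ G) (hF : Coh.IsCoh F)
    (hG : Coh.IsCoh G) (hK : DimLT f e (kernel φ)) (hC : DimLT f e (cokernel φ)) (q : ℕ) :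
    ∃ C : ℕ, ∀ ν ∈ S, ∀ a : ι → ℤ,
      Near (hq k q F (pull f (∏ i, g i ^ a i) * ν)) (hq k q G (pull f (∏ i, g i ^ a i) * ν))
        (C * phi e (∑ i, (a i).natAbs)) := by
  obtain ⟨C, hC⟩ := near_hom_list k hA hf hS (sgn g) φ hF hG hK hC q
  refine ⟨C, fun ν hν a => ?_⟩
  obtain ⟨w, h1, h2⟩ := exists_word g a
  rw [← h1, ← h2]
  exact hC ν hν w

end K433.Growth
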