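import Mathlib.Order.LiminfLimsup
import Mathlib.Topology.Algebra.Order.LiminfLimsup
import Mathlib.Analysis.SpecificLimits.Basic
import Mathlib.Analysis.Asymptotics.Lemmas

/-!
# Upper limits of nonnegative bounded real sequences
-/

set_option autoImplicit false
open Filter Topology

namespace K433.LimsupCalc

variable {u v w : ℕ → ℝ}

theorem isCobounded_of_nonneg (hu : ∀ m, 0 ≤ u m) : IsCoboundedUnder (· ≤ ·) atTop u :=
  (isBoundedUnder_of ⟨0, hu⟩ : IsBoundedUnder (· ≥ ·) atTop u).isCoboundedUnder_le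

theorem limsup_le (hu : ∀ m, 0 ≤ u m) (hv : ∀ m, 0 ≤ v m) (hvb : IsBoundedUnder (· ≤ ·) atTop v)
    (h : ∀ ε : ℝ, 0 < ε → ∀ᶠ m in atTop, u m ≤ v m + ε) : limsup u atTop ≤ limsup v atTop := by
  refine le_of_forall_pos_le_add fun ε hε => ?_
  rw [← limsup_add_const atTop v ε hvb (isCobounded_of_nonneg hv)]
  refine limsup_le_limsup (h ε hε) (isCobounded_of_nonneg hu) ?_
  obtain ⟨B, hB⟩ := hvb
  exact ⟨B + ε, by
    rw [eventually_map] at hB ⊢
    filter_upwards [hB] with m hm
    linarith⟩

theorem isBounded_of_tendsto_sub (hub : IsBoundedUnder (· ≤ ·) atTop u)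
    (h : Tendsto (fun m => u m - v m) atTop (𝓝 0)) : IsBoundedUnder (· ≤ ·) atTop v := by
  obtain ⟨B, hB⟩ := hub
  refine ⟨B + 1, ?_⟩
  rw [eventually_map] at hB ⊢
  have h1 := h.eventually (lt_mem_nhds (show (-1 : ℝ) < 0 by norm_num))
  filter_upwards [hB, h1] with m h2 h3
  linarith

theorem limsup_eq_of_tendsto_sub (hu : ∀ m, 0 ≤ u m) (hv : ∀ m, 0 ≤ v m) (hub : IsBoundedUnder (· ≤ ·) atTop u)
    (h : Tendsto (fun m => u m - v m) atTop (𝓝 0)) : limsup u atTop = limsup v atTop := by
  have hvb := isBounded_of_tendsto_sub hub h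
  refine le_antisymm (limsup_le hu hv hvb fun ε hε => ?_) (limsup_le hv hu hub fun ε hε => ?_)
  · filter_upwards [h.eventually (gt_mem_nhds hε)] with m hm
    linarith
  · filter_upwards [h.eventually (lt_mem_nhds (show -ε < 0 by linarith))] with m hm
    linarith

theorem limsup_const_mul {c : ℝ} (hc : 0 ≤ c) (hu : ∀ m, 0 ≤ u m) (hub : IsBoundedUnder (· ≤ ·) atTop u) :
    limsup (fun m => c * u m) atTop = c * limsup u atTop := by
  have hmono : Monotone (fun x : ℝ => c * x) := fun a b h => mul_le_mul_of_nonneg_left h hc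
  have h := hmono.map_limsup_of_continuousAt (F := atTop) (a := u)
    ((continuous_const.mul continuous_id).continuousAt) hub (isCobounded_of_nonneg hu)
  exact h.symm

/-- The upper limit along the multiples of `a`. -/
theorem limsup_multiples {a : ℕ} (ha : 0 < a) (hu : ∀ m, 0 ≤ u m) (hub : IsBoundedUnder (· ≤ ·) atTop u)
    (h : ∀ ε : ℝ, 0 < ε → ∀ᶠ m in atTop, u m ≤ u (a * (m / a)) + ε) :
    limsup (fun m => u (a * m)) atTop = limsup u atTop := by
  have ht : Tendsto (fun m => a * m) atTop (atTop : Filter ℕ) :=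
    tendsto_id.const_mul_atTop' ha
  have ht' : Tendsto (fun m => m / a) atTop (atTop : Filter ℕ) := Nat.tendsto_div_const_atTop ha.ne'
  have hwb : IsBoundedUnder (· ≤ ·) atTop (fun m => u (a * m)) := by
    obtain ⟨B, hB⟩ := hub
    exact ⟨B, by rw [eventually_map] at hB ⊢; exact ht.eventually hB⟩
  have hwb' : IsBoundedUnder (· ≤ ·) atTop (fun m => u (a * (m / a))) := by
    obtain ⟨B, hB⟩ := hwb
    exact ⟨B, by rw [eventually_map] at hB ⊢; exact ht'.eventually hB⟩
  apply le_antisymm
  · have : limsup (fun m => u (a * m)) atTop = limsup u (map (fun m => a * m) atTop) := rfl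
    rw [this]
    refine limsup_le_limsup_of_le ht ?_ hub
    have : IsBoundedUnder (· ≥ ·) (map (fun m => a * m) atTop) u := isBoundedUnder_of ⟨0, hu⟩
    exact this.isCoboundedUnder_le
  · refine (limsup_le hu (fun m => hu _) hwb' h).trans ?_
    have : limsup (fun m => u (a * (m / a))) atTop = limsup (fun m => u (a * m)) (map (fun m => m / a) atTop) := rfl
    rw [this]
    refine limsup_le_limsup_of_le ht' ?_ hwb
    have : IsBoundedUnder (· ≥ ·) (map (fun m => m / a) atTop) (fun m => u (a * m)) :=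
      isBoundedUnder_of ⟨0, fun m => hu _⟩
    exact this.isCoboundedUnder_le

end K433.LimsupCalc
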