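import Groth.Agent.Variety.K433.GrowthBound
import Groth.Agent.Variety.K433.LimsupCalc
import Mathlib.Tactic.FieldSimp
import Mathlib.Tactic.Positivity
import Mathlib.Tactic.Linarith

/-!
# Upper limits of sequences with the growth of cohomology

For `h : ℕ → ℕ` with `h m ≤ C phi (n+1) m` the sequence `h m · n! / m^n` is bounded, and changes of size
`C phi n m` do not change its upper limit.
-/

set_option autoImplicit false
open Filter Topology

namespace K433.Growth

open K433.LimsupCalc K433.Hq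

theorem phi_succ_div_le (n : ℕ) {m : ℕ} (hm : 1 ≤ m) : (phi (n + 1) m : ℝ) / (m : ℝ) ^ n ≤ 2 ^ n := by
  have h0 : (0 : ℝ) < m := by exact_mod_cast hm
  have h1 : (1 : ℝ) ≤ m := by exact_mod_cast hm
  rw [phi_succ, div_le_iff₀ (by positivity), ← mul_pow]
  push_cast
  gcongr
  linarith

theorem tendsto_phi_div (n : ℕ) (C : ℝ) :
    Tendsto (fun m : ℕ => C * (phi n m : ℝ) / (m : ℝ) ^ n) atTop (𝓝 0) := by
  cases n with
  | zero => simp [phi_zero]
  | succ n =>
    have h1 : Tendsto (fun m : ℕ => (2 : ℝ) ^ n / (m : ℝ)) atTop (𝓝 0) :=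
      tendsto_const_nhds.div_atTop tendsto_natCast_atTop_atTop
    have h2 : Tendsto (fun m : ℕ => (phi (n + 1) m : ℝ) / (m : ℝ) ^ (n + 1)) atTop (𝓝 0) := by
      refine squeeze_zero' (Eventually.of_forall fun m => by positivity) ?_ h1
      filter_upwards [eventually_ge_atTop 1] with m hm
      have h0 : (0 : ℝ) < m := by exact_mod_cast hm
      rw [pow_succ, ← div_div]
      gcongr
      exact phi_succ_div_le n hm
    have h3 := h2.const_mul C
    rw [mul_zero] at h3
    refine h3.congr fun m => ?_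
    ring

/-- The normalised sequence. -/
noncomputable def nseq (n : ℕ) (h : ℕ → ℕ) (m : ℕ) : ℝ := (h m : ℝ) * (n.factorial : ℝ) / (m : ℝ) ^ n

theorem nseq_nonneg (n : ℕ) (h : ℕ → ℕ) (m : ℕ) : 0 ≤ nseq n h m := by unfold nseq; positivity

theorem nseq_bounded {n : ℕ} {h : ℕ → ℕ} {C : ℕ} (hb : ∀ m, h m ≤ C * phi (n + 1) m) :
    IsBoundedUnder (· ≤ ·) atTop (nseq n h) := by
  refine ⟨C * 2 ^ n * n.factorial, ?_⟩
  rw [eventually_map]
  filter_upwards [eventually_ge_atTop 1] with m hm
  have h0 : (0 : ℝ) < m := by exact_mod_cast hm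
  have h1 : (h m : ℝ) ≤ C * phi (n + 1) m := by exact_mod_cast hb m
  have h2 := phi_succ_div_le n hm
  calc nseq n h m ≤ (C * phi (n + 1) m) * n.factorial / (m : ℝ) ^ n := by unfold nseq; gcongr
    _ = C * (phi (n + 1) m / (m : ℝ) ^ n) * n.factorial := by ring
    _ ≤ C * 2 ^ n * n.factorial := by gcongr

theorem nseq_tendsto_zero {n : ℕ} {h : ℕ → ℕ} {C : ℕ} (hb : ∀ m, h m ≤ C * phi n m) :
    Tendsto (nseq n h) atTop (𝓝 0) := by
  refine squeeze_zero (nseq_nonneg n h) (fun m => ?_) (tendsto_phi_div n (C * n.factorial))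
  have h1 : (h m : ℝ) ≤ C * phi n m := by exact_mod_cast hb m
  calc nseq n h m ≤ (C * phi n m) * n.factorial / (m : ℝ) ^ n := by unfold nseq; gcongr
    _ = _ := by ring

theorem nseq_sub_tendsto {n : ℕ} {h h' : ℕ → ℕ} {C : ℕ} (hn : ∀ m, Near (h m) (h' m) (C * phi n m)) :
    Tendsto (fun m => nseq n h m - nseq n h' m) atTop (𝓝 0) := by
  refine squeeze_zero_norm (fun m => ?_) (tendsto_phi_div n (C * n.factorial))
  have h1 := (hn m).abs_real
  have h2 : nseq n h m - nseq n h' m = ((h m : ℝ) - h' m) * n.factorial / (m : ℝ) ^ n := by unfold nseq; ring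
  rw [h2, Real.norm_eq_abs, abs_div, abs_mul, abs_of_nonneg (show (0 : ℝ) ≤ n.factorial by positivity),
    abs_of_nonneg (show (0 : ℝ) ≤ (m : ℝ) ^ n by positivity)]
  calc |(h m : ℝ) - h' m| * n.factorial / (m : ℝ) ^ n ≤ ((C * phi n m : ℕ) : ℝ) * n.factorial / (m : ℝ) ^ n := by gcongr
    _ = _ := by push_cast; ring

/-- A change of size `C phi n m` does not change the upper limit. -/
theorem limsup_eq_of_near {n : ℕ} {h h' : ℕ → ℕ} {C C' : ℕ} (hn : ∀ m, Near (h m) (h' m) (C * phi n m))
    (hb : ∀ m, h' m ≤ C' * phi (n + 1) m) : limsup (nseq n h) atTop = limsup (nseq n h') atTop := by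
  refine (limsup_eq_of_tendsto_sub (nseq_nonneg n h') (nseq_nonneg n h) (nseq_bounded hb) ?_).symm
  exact nseq_sub_tendsto fun m => (hn m).symm

theorem limsup_eq_mul_of_near {n d : ℕ} {h h' : ℕ → ℕ} {C C' : ℕ} (hn : ∀ m, Near (h m) (d * h' m) (C * phi n m))
    (hb : ∀ m, h' m ≤ C' * phi (n + 1) m) : limsup (nseq n h) atTop = d * limsup (nseq n h') atTop := by
  rw [limsup_eq_of_near (C' := d * C') hn fun m => by rw [mul_assoc]; exact Nat.mul_le_mul_left _ (hb m),
    ← limsup_const_mul (Nat.cast_nonneg d) (nseq_nonneg n h') (nseq_bounded hb)]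
  congr 1
  funext m
  unfold nseq
  push_cast
  ring

theorem le_add_steps {h : ℕ → ℕ} {C n : ℕ} (hs : ∀ m, Near (h (m + 1)) (h m) (C * phi n m)) (m' j : ℕ) :
    Near (h (m' + j)) (h m') (j * (C * phi n (m' + j))) := by
  induction j with
  | zero => exact Near.refl _ _
  | succ j ih =>
    have h1 := hs (m' + j)
    have h2 : C * phi n (m' + j) ≤ C * phi n (m' + (j + 1)) :=
      Nat.mul_le_mul_left _ (phi_mono_right n (by omega))
    refine ((h1.mono h2).trans (ih.mono (Nat.mul_le_mul_left j h2))).mono (le_of_eq ?_)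
    ring

/-- The upper limit along multiples, for sequences with small steps. -/
theorem limsup_multiples_of_near {n : ℕ} {h : ℕ → ℕ} {C C' : ℕ} (hs : ∀ m, Near (h (m + 1)) (h m) (C * phi n m))
    (hb : ∀ m, h m ≤ C' * phi (n + 1) m) {a : ℕ} (ha : 1 ≤ a) :
    limsup (nseq n fun m => h (a * m)) atTop = (a : ℝ) ^ n * limsup (nseq n h) atTop := by
  have ha0 : (0 : ℝ) < a := by exact_mod_cast ha
  have h1 : limsup (fun m => nseq n h (a * m)) atTop = limsup (nseq n h) atTop := by
    refine limsup_multiples ha (nseq_nonneg n h) (nseq_bounded hb) fun ε hε => ?_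
    have ht := tendsto_phi_div n (a * C * n.factorial)
    filter_upwards [ht.eventually (gt_mem_nhds hε), eventually_ge_atTop a] with m hm hma
    have hdm := Nat.div_add_mod m a
    have hmod := Nat.mod_lt m ha
    set m' := a * (m / a) with hm'
    have hm'pos : 1 ≤ m' := le_trans ha (by
      rw [hm']; exact Nat.le_mul_of_pos_right _ (Nat.div_pos hma ha))
    have hstep := (le_add_steps hs m' (m % a)).1
    rw [hdm] at hstep
    have h2 : h m ≤ h m' + a * (C * phi n m) :=
      hstep.trans (Nat.add_le_add_left (Nat.mul_le_mul_right _ hmod.le) _)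
    have h3 : (h m : ℝ) ≤ h m' + a * (C * phi n m) := by exact_mod_cast h2
    have hm0 : (0 : ℝ) < (m' : ℝ) := by exact_mod_cast hm'pos
    have hle : (m' : ℝ) ≤ m := by exact_mod_cast (by omega : m' ≤ m)
    have hm0' : (0 : ℝ) < (m : ℝ) := hm0.trans_le hle
    calc nseq n h m ≤ (h m' + a * (C * phi n m)) * n.factorial / (m : ℝ) ^ n := by unfold nseq; gcongr
      _ = h m' * n.factorial / (m : ℝ) ^ n + (a * C * n.factorial) * phi n m / (m : ℝ) ^ n := by ring
      _ ≤ h m' * n.factorial / (m' : ℝ) ^ n + (a * C * n.factorial) * phi n m / (m : ℝ) ^ n := by gcongr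
      _ ≤ nseq n h m' + ε := by unfold nseq; linarith
  rw [← h1, ← limsup_const_mul (by positivity) (fun m => nseq_nonneg n h (a * m))]
  · congr 1
    funext m
    unfold nseq
    push_cast
    rw [mul_pow]
    field_simp
  · obtain ⟨B, hB⟩ := nseq_bounded hb
    have ht : Tendsto (fun m => a * m) atTop (atTop : Filter ℕ) := tendsto_id.const_mul_atTop' ha
    exact ⟨B, by rw [eventually_map] at hB ⊢; exact ht.eventually hB⟩

end K433.Growth
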