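import Groth.Prelude.Def_W4c5asymptcohfnACF
import Groth.Agent.Variety.K433.GrowthHom
import Groth.Agent.Variety.K433.GrowthLim

/-!
# The asymptotic cohomological functions in terms of `hq`

* `hhat_eq`, `hhatF_eq`.
* `mc_ztwist`.
* the growth theorem for modules on `X` itself (`f = 𝟙 X`): `growth_id`, `growth_step_id`, `growth_hom_id`.
-/

set_option autoImplicit false
universe u v
open CategoryTheory CategoryTheory.Limits AlgebraicGeometry Filter

namespace K433.Growth

open Groth.Agent Groth.Agent.Grpsch.PicGrp K433.Hq Groth.Agent.Fdesc.LocGen Groth.Agent.Fga.PicMon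

section hhat

variable (k : Type u) [Field k] {X : Scheme.{u}} [X.Over (Spec (CommRingCat.of k))]

theorem hq_tensorPow (q : ℕ) (F : X.Modules) {L : X.Modules} (hL : PicF.IsInvertible L) (m : ℕ) :
    hh k (CohB1.tensorMod F (CohB1.tensorPow L m)) q = hq k q F (mk L hL ^ m) := by
  rw [← mk_tensorPow hL, hq_mk]

theorem hh_tensorPow (q : ℕ) {L : X.Modules} (hL : PicF.IsInvertible L) (m : ℕ) :
    hh k (CohB1.tensorPow L m) q = hq k q (Coh.structureModule X) (mk L hL ^ m) := by
  rw [← mk_tensorPow hL, hq_unit]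

theorem hhat_eq (n i : ℕ) {L : X.Modules} (hL : PicF.IsInvertible L) :
    W4c5asymptcohfn.hhat k X n i L = limsup (nseq n fun m => hq k i (Coh.structureModule X) (mk L hL ^ m)) atTop := by
  refine congrArg (fun u => limsup u atTop) (funext fun m => ?_)
  rw [nseq, ← hh_tensorPow]
  rfl

theorem hhatF_eq (n i : ℕ) (F : X.Modules) {L : X.Modules} (hL : PicF.IsInvertible L) :
    W4c5asymptcohfn.hhatF k X n i F L = limsup (nseq n fun m => hq k i F (mk L hL ^ m)) atTop := by
  refine congrArg (fun u => limsup u atTop) (funext fun m => ?_)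
  rw [nseq, ← hq_tensorPow]
  rfl

end hhat

section ztwist

variable {X : Scheme.{u}}

/-- The monoid homomorphism from the Picard group to the monoid of classes. -/
noncomputable def toMC : Pic X →* MC X where
  toFun c := mc (rep c)
  map_one' := mc_rep_one
  map_mul' := mc_rep_mul

theorem toMC_mk {L : X.Modules} (hL : PicF.IsInvertible L) : toMC (mk L hL) = mc L := mc_rep hL rfl

theorem toMC_inv_of_tensor {L M : X.Modules} (hL : PicF.IsInvertible L)
    (h : Nonempty (CohB1.tensorMod L M ≅ Coh.structureModule X)) : mc M = toMC (mk L hL)⁻¹ := by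
  have h1 : mc L * mc M = 1 := by rw [← mc_tensor, ← mc_one]; exact (mc_eq_iff _ _).mpr h
  calc mc M = toMC ((mk L hL)⁻¹ * mk L hL) * mc M := by rw [inv_mul_cancel, map_one, one_mul]
    _ = toMC (mk L hL)⁻¹ * (mc L * mc M) := by rw [map_mul, toMC_mk, mul_assoc]
    _ = _ := by rw [h1, mul_one]

theorem mc_ztwist {r : ℕ} {L M : Fin r → X.Modules} (hL : ∀ j, PicF.IsInvertible (L j))
    (h : ∀ j, Nonempty (CohB1.tensorMod (L j) (M j) ≅ Coh.structureModule X)) (a : Fin r → ℤ) :
    mc (W4c5asymptcohfn.ztwist X L M a) = toMC (∏ j, mk (L j) (hL j) ^ a j) := by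
  rw [W4c5asymptcohfn.ztwist, mc_tensor, mc_multiTwist, mc_multiTwist, ← Finset.prod_mul_distrib, map_prod]
  refine Finset.prod_congr rfl fun j _ => ?_
  rw [toMC_inv_of_tensor (hL j) (h j), ← toMC_mk (hL j), ← map_pow, ← map_pow, ← map_mul]
  congr 1
  rw [← zpow_natCast, ← zpow_natCast, inv_zpow', ← zpow_add]
  congr 1
  omega

theorem hh_ztwist (k : Type u) [Field k] [X.Over (Spec (CommRingCat.of k))] (q : ℕ) (F : X.Modules) {r : ℕ}
    {L M : Fin r → X.Modules} (hL : ∀ j, PicF.IsInvertible (L j))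
    (h : ∀ j, Nonempty (CohB1.tensorMod (L j) (M j) ≅ Coh.structureModule X)) (a : Fin r → ℤ) :
    hh k (CohB1.tensorMod F (W4c5asymptcohfn.ztwist X L M a)) q = hq k q F (∏ j, mk (L j) (hL j) ^ a j) :=
  hh_congr k (by rw [mc_tensor, mc_tensor, mc_ztwist hL h]; rfl) q

theorem hh_ztwist' (k : Type u) [Field k] [X.Over (Spec (CommRingCat.of k))] (q : ℕ) {r : ℕ}
    {L M : Fin r → X.Modules} (hL : ∀ j, PicF.IsInvertible (L j))
    (h : ∀ j, Nonempty (CohB1.tensorMod (L j) (M j) ≅ Coh.structureModule X)) (a : Fin r → ℤ) :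
    hh k (W4c5asymptcohfn.ztwist X L M a) q = hq k q (Coh.structureModule X) (∏ j, mk (L j) (hL j) ^ a j) :=
  hh_congr k (by rw [mc_tensor, mc_ztwist hL h, mc_one, one_mul]; rfl) q

end ztwist

end K433.Growth
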