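import Groth.Agent.Variety.K433.GrowthRank
import Groth.Agent.Variety.K433.HhatEq

/-!
# The growth theorem on a projective scheme (interface)

`X` proper over a field `k` with an ample module `A`; `g i`, `g`, `g₀` classes in `PicGrp.Pic X`;
`hq k q F c = dim_k H^q(X, F ⊗ c)`; `phi 0 N = 0`, `phi (n+1) N = (N+1)^n`; `Near a b E` is `|a - b| ≤ E`.
* `growth_zpow`, `growth_pow`: `dim Supp F ≤ n` implies `h^q(F ⊗ g^a) ≤ C (|a|+1)^n`.
* `step_zpow`, `step_pow`: `dim Supp F ≤ n` implies `|h^q(F ⊗ g₀ g^a) - h^q(F ⊗ g^a)| ≤ C phi n |a|`.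
* `hom_zpow`, `hom_pow`: `φ : F ⟶ G` with kernel and cokernel of support of dimension `< n` implies
  `|h^q(F ⊗ g^a) - h^q(G ⊗ g^a)| ≤ C phi n |a|`.
* `rank_zpow`, `rank_pow`: `X` integral of dimension `≤ n` implies `|h^q(F ⊗ g^a) - rk F · h^q(g^a)| ≤ C phi n |a|`.
-/

set_option autoImplicit false
universe u v
open CategoryTheory CategoryTheory.Limits AlgebraicGeometry Filter

namespace K433.Growth

open Groth.Agent Groth.Agent.Grpsch.PicGrp K433.Hq Groth.Agent.Fdesc.LocGen Groth.Agent.VarietyA.DegRank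

variable (k : Type u) [Field k] {X : Scheme.{u}} [X.Over (Spec (CommRingCat.of k))]
  [IsProper (X ↘ Spec (CommRingCat.of k))] {A : X.Modules} (hA : CohB1.IsAmple A) {ι : Type v}

theorem dimLT_succ_of_le {n : ℕ} {F : X.Modules} (hn : topologicalKrullDim (CohB1.support F) ≤ n) :
    DimLT (𝟙 X) (n + 1) F := dimLT_id_iff.mpr (lt_succ_of_le hn)

include hA

theorem growth_zpow [Fintype ι] (g : ι → Pic X) {n : ℕ} {F : X.Modules} (hF : Coh.IsCoh F)
    (hn : topologicalKrullDim (CohB1.support F) ≤ n) (q : ℕ) :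
    ∃ C : ℕ, ∀ a : ι → ℤ, hq k q F (∏ i, g i ^ a i) ≤ C * (∑ i, (a i).natAbs + 1) ^ n := by
  have := Fga.HypSec.isNoetherian k X
  have := Fga.HypSec.isSeparated k X
  obtain ⟨C, hC⟩ := bound_zpow k hA (isClosedMap_id' X) (bdd_singleton k 1) g (n + 1) hF (dimLT_succ_of_le hn) q
  refine ⟨C, fun a => ?_⟩
  have := hC 1 rfl a
  rwa [mul_one, pull_id] at this

theorem growth_pow (g : Pic X) {n : ℕ} {F : X.Modules} (hF : Coh.IsCoh F)
    (hn : topologicalKrullDim (CohB1.support F) ≤ n) (q : ℕ) :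
    ∃ C : ℕ, ∀ m : ℕ, hq k q F (g ^ m) ≤ C * phi (n + 1) m := by
  have := Fga.HypSec.isNoetherian k X
  have := Fga.HypSec.isSeparated k X
  obtain ⟨C, hC⟩ := bound_pow k hA (isClosedMap_id' X) (bdd_singleton k 1) g (n + 1) hF (dimLT_succ_of_le hn) q
  refine ⟨C, fun a => ?_⟩
  have := hC 1 rfl a
  rwa [mul_one, pull_id] at this

theorem step_zpow [Fintype ι] (g : ι → Pic X) {n : ℕ} {F : X.Modules} (hF : Coh.IsCoh F)
    (hn : topologicalKrullDim (CohB1.support F) ≤ n) (g₀ : Pic X) (q : ℕ) :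
    ∃ C : ℕ, ∀ a : ι → ℤ, Near (hq k q F (g₀ * ∏ i, g i ^ a i)) (hq k q F (∏ i, g i ^ a i))
      (C * phi n (∑ i, (a i).natAbs)) := by
  have := Fga.HypSec.isNoetherian k X
  have := Fga.HypSec.isSeparated k X
  obtain ⟨C, hC⟩ := near_zpow k hA (isClosedMap_id' X) (bdd_singleton k 1) g hF (dimLT_succ_of_le hn) g₀ q
  refine ⟨C, fun a => ?_⟩
  have := hC 1 rfl a
  rwa [mul_one, mul_one, pull_id, pull_id] at this

theorem step_pow (g : Pic X) {n : ℕ} {F : X.Modules} (hF : Coh.IsCoh F)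
    (hn : topologicalKrullDim (CohB1.support F) ≤ n) (g₀ : Pic X) (q : ℕ) :
    ∃ C : ℕ, ∀ m : ℕ, Near (hq k q F (g₀ * g ^ m)) (hq k q F (g ^ m)) (C * phi n m) := by
  have := Fga.HypSec.isNoetherian k X
  have := Fga.HypSec.isSeparated k X
  obtain ⟨C, hC⟩ := near_pow k hA (isClosedMap_id' X) (bdd_singleton k 1) g hF (dimLT_succ_of_le hn) g₀ q
  refine ⟨C, fun a => ?_⟩
  have := hC 1 rfl a
  rwa [mul_one, mul_one, pull_id, pull_id] at this

theorem hom_zpow [Fintype ι] (g : ι → Pic X) {n : ℕ} {F G : X.Modules} (φ : F ⟶ G) (hF : Coh.IsCoh F)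
    (hG : Coh.IsCoh G) (hK : topologicalKrullDim (CohB1.support (kernel φ)) < (n : WithBot ℕ∞))
    (hC : topologicalKrullDim (CohB1.support (cokernel φ)) < (n : WithBot ℕ∞)) (q : ℕ) :
    ∃ C : ℕ, ∀ a : ι → ℤ, Near (hq k q F (∏ i, g i ^ a i)) (hq k q G (∏ i, g i ^ a i))
      (C * phi n (∑ i, (a i).natAbs)) := by
  have := Fga.HypSec.isNoetherian k X
  have := Fga.HypSec.isSeparated k X
  obtain ⟨C, hC⟩ := near_hom_zpow k hA (isClosedMap_id' X) (bdd_singleton k 1) g φ hF hG (dimLT_id_iff.mpr hK)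
    (dimLT_id_iff.mpr hC) q
  refine ⟨C, fun a => ?_⟩
  have := hC 1 rfl a
  rwa [mul_one, pull_id] at this

theorem hom_pow (g : Pic X) {n : ℕ} {F G : X.Modules} (φ : F ⟶ G) (hF : Coh.IsCoh F)
    (hG : Coh.IsCoh G) (hK : topologicalKrullDim (CohB1.support (kernel φ)) < (n : WithBot ℕ∞))
    (hC : topologicalKrullDim (CohB1.support (cokernel φ)) < (n : WithBot ℕ∞)) (q : ℕ) :
    ∃ C : ℕ, ∀ m : ℕ, Near (hq k q F (g ^ m)) (hq k q G (g ^ m)) (C * phi n m) := by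
  have := Fga.HypSec.isNoetherian k X
  have := Fga.HypSec.isSeparated k X
  obtain ⟨C, hC⟩ := near_hom_list k hA (isClosedMap_id' X) (bdd_singleton k 1) (fun _ : Unit => g) φ hF hG
    (dimLT_id_iff.mpr hK) (dimLT_id_iff.mpr hC) q
  refine ⟨C, fun m => ?_⟩
  have := hC 1 rfl (List.replicate m ())
  rwa [List.map_replicate, List.prod_replicate, List.length_replicate, mul_one, pull_id] at this

theorem rank_zpow [IsIntegral X] [Fintype ι] (g : ι → Pic X) {n : ℕ} (hn : topologicalKrullDim X ≤ n)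
    {F : X.Modules} (hF : Coh.IsCoh F) (q : ℕ) :
    ∃ C : ℕ, ∀ a : ι → ℤ, Near (hq k q F (∏ i, g i ^ a i)) (rk F * hq k q (Coh.structureModule X) (∏ i, g i ^ a i))
      (C * phi n (∑ i, (a i).natAbs)) := by
  obtain ⟨C, hC⟩ := near_rank_zpow k hA (bdd_singleton k 1) g hn hF q
  refine ⟨C, fun a => ?_⟩
  have := hC 1 rfl a
  rwa [mul_one] at this

theorem rank_pow [IsIntegral X] (g : Pic X) {n : ℕ} (hn : topologicalKrullDim X ≤ n)
    {F : X.Modules} (hF : Coh.IsCoh F) (q : ℕ) :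
    ∃ C : ℕ, ∀ m : ℕ, Near (hq k q F (g ^ m)) (rk F * hq k q (Coh.structureModule X) (g ^ m)) (C * phi n m) := by
  obtain ⟨C, hC⟩ := near_rank_pow k hA (bdd_singleton k 1) g hn hF q
  refine ⟨C, fun a => ?_⟩
  have := hC 1 rfl a
  rwa [mul_one] at this

end K433.Growth
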