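import Groth.Agent.Variety.K433.PushRank
import Groth.Agent.Variety.K433.GrowthId
import Groth.Agent.Gaga.H883.SerreRel
import Groth.Agent.VarietyB.HHPush
import Groth.Agent.CalgB.ProjImm2
import Groth.Agent.S0927
import Groth.Agent.Ega3B.RpushAff
import Groth.Agent.Ega2.VeryAmpleAmple
import Groth.Agent.S0036
import Groth.Agent.S1530

/-!
# Cohomology of pulled back invertible modules under a generically finite morphism (helper433)

For `f : Y ⟶ X` a morphism of integral schemes proper over `k`, `X` and `Y` with ample modules, generically finite of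
degree `d`: `h^q(Y, f^* g^m) = d · h^q(X, g^m) + O(m^(n-1))`.
-/

set_option autoImplicit false
universe u

open CategoryTheory CategoryTheory.Limits AlgebraicGeometry Opposite TopologicalSpace

namespace K433.PushGF

open Groth.Agent Groth.Agent.Grpsch.PicGrp Groth.Agent.Fdesc.LocGen K433.Hq K433.Growth Groth.Agent.VarietyA.DegRank K433.PushRank

theorem hasInj (X : Scheme.{u}) : HasInjectiveResolutions X.Modules := by
  have := VarietyB.HHPush.enoughInjectives X
  infer_instance

section

variable {X Y : Scheme.{u}} (f : Y ⟶ X)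

/-- An invertible module upstairs without higher direct images. -/
theorem exists_acyclic [HasInjectiveResolutions Y.Modules] [IsProper f] [IsNoetherian X] {B : Y.Modules}
    (hB : CohB1.IsAmple B) :
    ∃ G : Y.Modules, PicF.IsInvertible G ∧ ∀ q, 1 ≤ q → IsZero ((Coh.Rpush f q).obj G) := by
  have hN : IsLocallyNoetherian Y := LocallyOfFiniteType.isLocallyNoetherian f
  have hO : Coh.IsCoh (Coh.structureModule Y) := Groth.Agent.Fdesc.StructMod.isCoh_structureModule Y
  obtain ⟨n₀, h⟩ := Gaga.H883.SerreRel.exists_vanishing f (CalgB.ProjImm.isRelAmple_of_isAmple hB) hO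
  have hinv : PicF.IsInvertible (CohB1.tensorPow B n₀) :=
    Groth.Agent.Fdesc.LocGen.isInvertible_tensorPow hB.1 n₀
  have hinv' : PicF.IsInvertible (CohB1.tensorMod (Coh.structureModule Y) (CohB1.tensorPow B n₀)) :=
    Groth.Agent.Ega2.VeryAmpleAmple.isInvertible_of_iso (Groth.Agent.Ega2.Tens.lunit _).symm hinv
  refine ⟨CohB1.tensorMod (Coh.structureModule Y) (CohB1.tensorPow B n₀), hinv', fun q hq => ?_⟩
  exact (Ega3B.RpushAff.isZero_iff f _ (Groth.Agent.Ega2.GlobGenCrit.isInvertible_isQCoh hinv') q).2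
    fun V hV => h n₀ le_rfl q hq V hV

theorem isFinLocFree_of_isInvertible {L : X.Modules} (hL : PicF.IsInvertible L) : FlatMod.IsFinLocFree L := by
  intro x
  obtain ⟨U, hU, ⟨e⟩⟩ := hL x
  refine ⟨U, 1, hU, ⟨e ≪≫ ?_⟩⟩
  exact (Limits.coproductUniqueIso (fun _ : Fin 1 => Coh.structureModule (↑U : Scheme.{u}))).symm

/-- Twisting by modules from the base preserves acyclicity. -/
theorem isZero_tensor [HasInjectiveResolutions Y.Modules] {G : Y.Modules} {q : ℕ}
    (hz : IsZero ((Coh.Rpush f q).obj G)) {E : X.Modules} (hE : PicF.IsInvertible E) :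
    IsZero ((Coh.Rpush f q).obj (CohB1.tensorMod ((Scheme.Modules.pullback f).obj E) G)) := by
  obtain ⟨e⟩ := S0927.result f G E (isFinLocFree_of_isInvertible hE) q
  refine IsZero.of_iso ?_ e.symm
  exact (DCoh.tensorBi.obj E).map_isZero hz

theorem acyc_of_isZero [HasInjectiveResolutions Y.Modules] [QuasiCompact f] [QuasiSeparated f] {G : Y.Modules}
    (hG : Coh.IsQCoh G) (hz : ∀ q, 1 ≤ q → IsZero ((Coh.Rpush f q).obj G)) : VarietyB.HHPush.Acyc f G := by
  intro V hV n x
  have h1 : Subsingleton (Coh.HHon Y G (f ⁻¹ᵁ V) (n + 1)) :=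
    Ega3B.RpushAff.subsingleton_HHon_of_isZero f G hG hV (n + 1) (hz _ (Nat.succ_pos n))
  have h2 : Subsingleton (CohTop.HU (X := Y.toTopCat) (Coh.toAb G) (n + 1) (f ⁻¹ᵁ V)) :=
    (CohqA.HOpen.HHonEquiv G (f ⁻¹ᵁ V) (n + 1)).toEquiv.subsingleton
  exact h2.elim _ _

theorem rpush_zero [HasInjectiveResolutions Y.Modules] (M : Y.Modules) :
    Nonempty ((Coh.Rpush f 0).obj M ≅ (Coh.push f).obj M) :=
  ⟨((Coh.push f).rightDerivedZeroIsoSelf).app M⟩

/-- The projection formula in degree zero. -/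
theorem push_tensor (G : Y.Modules) {E : X.Modules} (hE : PicF.IsInvertible E) :
    Nonempty ((Coh.push f).obj (CohB1.tensorMod ((Scheme.Modules.pullback f).obj E) G) ≅
      CohB1.tensorMod E ((Coh.push f).obj G)) := by
  have := hasInj Y
  obtain ⟨e⟩ := S0927.result f G E (isFinLocFree_of_isInvertible hE) 0
  obtain ⟨e1⟩ := rpush_zero f (CohB1.tensorMod ((Scheme.Modules.pullback f).obj E) G)
  obtain ⟨e2⟩ := rpush_zero f G
  obtain ⟨e3⟩ := Groth.Agent.Ega2.TensHom.tensCongr (Iso.refl E) e2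
  exact ⟨e1.symm ≪≫ e.symm ≪≫ e3⟩

theorem isCoh_push [IsProper f] [IsLocallyNoetherian X] {G : Y.Modules} (hG : Coh.IsCoh G) :
    Coh.IsCoh ((Coh.push f).obj G) := by
  have := hasInj Y
  exact Groth.Agent.Ega3B.DevQC.isCoh_of_iso (((Coh.push f).rightDerivedZeroIsoSelf).app G)
    (S0036.result f G hG 0)

end

end K433.PushGF
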