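import Groth.Agent.Variety.K433.Growth

/-!
# The growth theorem

See `Growth.lean`.  `phi e N` is `0` for `e = 0` and `(N+1)^(e-1)` for `e > 0`.

All statements are uniform over a set `S` of classes on `Y` such that `h^q(F ⊗ ν)`, `ν ∈ S`, is bounded for all
coherent `F` and all `q` (`Bdd k S`), for instance `S = {1}` or the numerically trivial classes.
* `bound_list`, `bound_zpow`, `bound_pow`: `h^q(F ⊗ ν ⊗ f^*g^a) ≤ C phi e |a|`, `dim f(Supp F) < e`.
* `near_list`, `near_zpow`, `near_pow`: `|h^q(F ⊗ ν ⊗ f^*(g₀ g^a)) - h^q(F ⊗ ν ⊗ f^* g^a)| ≤ C phi (e-1) |a|`.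
-/

set_option autoImplicit false
universe u v
open CategoryTheory CategoryTheory.Limits AlgebraicGeometry Opposite TopologicalSpace

namespace K433.Growth

open Groth.Agent Groth.Agent.Ega2 Groth.Agent.Fdesc.LocGen Groth.Agent.Fga.RegSec
open Groth.Agent.CohqB.SerTw Groth.Agent.Grpsch.PicGrp K433.Hq
open Groth.Agent.Pic13.H946.Core (cokSeq cokSeq_shortExact finrank_congr support_tw)

/-- `0` for `e = 0` and `(N+1)^(e-1)` for `e > 0`. -/
def phi (e N : ℕ) : ℕ := if e = 0 then 0 else (N + 1) ^ (e - 1)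

theorem phi_zero (N : ℕ) : phi 0 N = 0 := rfl

theorem phi_succ (e N : ℕ) : phi (e + 1) N = (N + 1) ^ e := rfl

theorem phi_mono_right (e : ℕ) {N N' : ℕ} (h : N ≤ N') : phi e N ≤ phi e N' := by
  cases e with
  | zero => exact le_rfl
  | succ e => rw [phi_succ, phi_succ]; gcongr

theorem mul_phi_le (e N : ℕ) : N * phi e N ≤ phi (e + 1) N := by
  cases e with
  | zero => rw [phi_zero, mul_zero]; exact Nat.zero_le _
  | succ e => rw [phi_succ, phi_succ, pow_succ, mul_comm]; gcongr; omega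

theorem one_le_phi_succ (e N : ℕ) : 1 ≤ phi (e + 1) N := by
  rw [phi_succ]; exact Nat.one_le_pow _ _ (Nat.succ_pos _)

theorem phi_le_succ (e N : ℕ) : phi e N ≤ phi (e + 1) N := by
  cases e with
  | zero => exact Nat.zero_le _
  | succ e => rw [phi_succ, phi_succ]; exact Nat.pow_le_pow_right (Nat.succ_pos _) (Nat.le_succ _)

/-- `g i` or its inverse. -/
def sgn {ι : Type v} {G : Type*} [CommGroup G] (g : ι → G) (p : ι × Bool) : G := if p.2 then g p.1 else (g p.1)⁻¹

theorem exists_word {ι : Type v} {G : Type*} [CommGroup G] [Fintype ι] (g : ι → G) (a : ι → ℤ) :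
    ∃ w : List (ι × Bool), w.length = ∑ i, (a i).natAbs ∧ (w.map (sgn g)).prod = ∏ i, g i ^ a i := by
  classical
  have key : ∀ s : Finset ι, ∃ w : List (ι × Bool), w.length = ∑ i ∈ s, (a i).natAbs ∧
      (w.map (sgn g)).prod = ∏ i ∈ s, g i ^ a i := by
    intro s
    induction s using Finset.induction_on with
    | empty => exact ⟨[], by simp, by simp⟩
    | insert i s his ih =>
      obtain ⟨w, h1, h2⟩ := ih
      rw [Finset.sum_insert his, Finset.prod_insert his]
      rcases le_total 0 (a i) with h | h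
      · refine ⟨List.replicate (a i).natAbs (i, true) ++ w, ?_, ?_⟩
        · rw [List.length_append, List.length_replicate, h1]
        · rw [List.map_append, List.prod_append, List.map_replicate, List.prod_replicate, h2]
          congr 1
          change g i ^ _ = _
          rw [← zpow_natCast, Int.natAbs_of_nonneg h]
      · refine ⟨List.replicate (a i).natAbs (i, false) ++ w, ?_, ?_⟩
        · rw [List.length_append, List.length_replicate, h1]
        · rw [List.map_append, List.prod_append, List.map_replicate, List.prod_replicate, h2]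
          congr 1
          change (g i)⁻¹ ^ _ = _
          rw [← zpow_natCast, Int.ofNat_natAbs_of_nonpos h, inv_zpow, zpow_neg, inv_inv]
  exact key Finset.univ

variable {X Y : Scheme.{u}} (k : Type u) [Field k] [Y.Over (Spec (CommRingCat.of k))]

/-- `h^q(F ⊗ ν)` is bounded for `ν ∈ S`, for all coherent `F` and all `q`. -/
def Bdd (S : Set (Pic Y)) : Prop :=
  ∀ F : Y.Modules, Coh.IsCoh F → ∀ q : ℕ, ∃ C : ℕ, ∀ ν ∈ S, hq k q F ν ≤ C

theorem bdd_singleton (ν : Pic Y) : Bdd k {ν} := fun F _ q => ⟨hq k q F ν, fun ν' h => by rw [Set.mem_singleton_iff.mp h]⟩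

theorem bdd_finite {S : Set (Pic Y)} (hS : S.Finite) : Bdd k S := by
  intro F hF q
  obtain ⟨C, hC⟩ := (hS.image (hq k q F)).bddAbove
  exact ⟨C, fun ν h => hC ⟨ν, h, rfl⟩⟩

variable [IsProper (Y ↘ Spec (CommRingCat.of k))] [CompactSpace X] [X.IsSeparated] {A : X.Modules}
  (hA : CohB1.IsAmple A) {f : Y ⟶ X} (hf : IsClosedMap f) {S : Set (Pic Y)} (hS : Bdd k S) {ι : Type v}

include hA hf hS

/-- **Growth theorem**, words version. -/
theorem bound_list [Finite ι] (g : ι → Pic X) (e : ℕ) : ∀ {F : Y.Modules} (_ : Coh.IsCoh F) (_ : DimLT f e F) (q : ℕ),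
    ∃ C : ℕ, ∀ ν ∈ S, ∀ w : List ι, hq k q F (pull f (w.map g).prod * ν) ≤ C * phi e w.length := by
  have := Fintype.ofFinite ι
  induction e with
  | zero =>
    intro F hF he q
    exact ⟨0, fun ν _ w => by rw [hq_eq_zero k q (dimLT_zero_iff.mp he)]; exact Nat.zero_le _⟩
  | succ e ih =>
    intro F hF he q
    choose G₁ G₂ hG₁ hG₂ he₁ he₂ hn using fun i => exists_diff k hA f hf hF he (g i)
    choose C₁ hC₁ using fun i => ih (hG₁ i) (he₁ i) (q - 1)
    choose C₂ hC₂ using fun i => ih (hG₁ i) (he₁ i) q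
    choose C₃ hC₃ using fun i => ih (hG₂ i) (he₂ i) (q - 1)
    choose C₄ hC₄ using fun i => ih (hG₂ i) (he₂ i) q
    obtain ⟨C₀, hC₀⟩ := hS F hF q
    let D : ℕ := ∑ i, ((C₁ i + C₂ i) + (C₃ i + C₄ i))
    have hD : ∀ i, (C₁ i + C₂ i) + (C₃ i + C₄ i) ≤ D := fun i =>
      Finset.single_le_sum (f := fun i => (C₁ i + C₂ i) + (C₃ i + C₄ i)) (fun _ _ => Nat.zero_le _) (Finset.mem_univ i)
    have key : ∀ ν ∈ S, ∀ w : List ι,
        hq k q F (pull f (w.map g).prod * ν) ≤ C₀ + w.length * (D * phi e w.length) := by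
      intro ν hν w
      induction w with
      | nil => simpa using hC₀ ν hν
      | cons i w ih' =>
        have h1 := (hn i q (pull f (w.map g).prod * ν)).1
        rw [← mul_assoc, ← map_mul] at h1
        rw [List.map_cons, List.prod_cons, List.length_cons]
        refine h1.trans ?_
        have h2 : (hq k (q - 1) (G₁ i) (pull f (w.map g).prod * ν) + hq k q (G₁ i) (pull f (w.map g).prod * ν)) +
            (hq k (q - 1) (G₂ i) (pull f (w.map g).prod * ν) + hq k q (G₂ i) (pull f (w.map g).prod * ν)) ≤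
            D * phi e w.length := by
          refine le_trans (Nat.add_le_add (Nat.add_le_add (hC₁ i ν hν w) (hC₂ i ν hν w))
            (Nat.add_le_add (hC₃ i ν hν w) (hC₄ i ν hν w))) ?_
          rw [← add_mul, ← add_mul, ← add_mul]
          exact Nat.mul_le_mul_right _ (hD i)
        have h3 : D * phi e w.length ≤ D * phi e (w.length + 1) :=
          Nat.mul_le_mul_left _ (phi_mono_right e (Nat.le_succ _))
        calc _ ≤ (C₀ + w.length * (D * phi e w.length)) + D * phi e w.length := Nat.add_le_add ih' h2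
          _ ≤ (C₀ + w.length * (D * phi e (w.length + 1))) + D * phi e (w.length + 1) :=
            Nat.add_le_add (Nat.add_le_add_left (Nat.mul_le_mul_left _ h3) _) h3
          _ = _ := by ring
    refine ⟨C₀ + D, fun ν hν w => (key ν hν w).trans ?_⟩
    rw [add_mul]
    refine Nat.add_le_add (Nat.le_mul_of_pos_right _ (one_le_phi_succ _ _)) ?_
    calc w.length * (D * phi e w.length) = D * (w.length * phi e w.length) := by ring
      _ ≤ _ := Nat.mul_le_mul_left _ (mul_phi_le e _)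

/-- Twisting by a fixed class, words version. -/
theorem near_list [Finite ι] (g : ι → Pic X) {e : ℕ} {F : Y.Modules} (hF : Coh.IsCoh F) (he : DimLT f (e + 1) F)
    (g₀ : Pic X) (q : ℕ) : ∃ C : ℕ, ∀ ν ∈ S, ∀ w : List ι,
      Near (hq k q F (pull f (g₀ * (w.map g).prod) * ν)) (hq k q F (pull f (w.map g).prod * ν))
        (C * phi e w.length) := by
  obtain ⟨G₁, G₂, hG₁, hG₂, he₁, he₂, hn⟩ := exists_diff k hA f hf hF he g₀
  obtain ⟨C₁, hC₁⟩ := bound_list k hA hf hS g e hG₁ he₁ (q - 1)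
  obtain ⟨C₂, hC₂⟩ := bound_list k hA hf hS g e hG₁ he₁ q
  obtain ⟨C₃, hC₃⟩ := bound_list k hA hf hS g e hG₂ he₂ (q - 1)
  obtain ⟨C₄, hC₄⟩ := bound_list k hA hf hS g e hG₂ he₂ q
  refine ⟨(C₁ + C₂) + (C₃ + C₄), fun ν hν w => ?_⟩
  rw [map_mul, mul_assoc]
  refine (hn q (pull f (w.map g).prod * ν)).mono ?_
  rw [add_mul, add_mul, add_mul]
  exact Nat.add_le_add (Nat.add_le_add (hC₁ ν hν w) (hC₂ ν hν w)) (Nat.add_le_add (hC₃ ν hν w) (hC₄ ν hν w))

/-- **Growth theorem**, integer exponents. -/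
theorem bound_zpow [Fintype ι] (g : ι → Pic X) (e : ℕ) {F : Y.Modules} (hF : Coh.IsCoh F) (he : DimLT f e F) (q : ℕ) :
    ∃ C : ℕ, ∀ ν ∈ S, ∀ a : ι → ℤ, hq k q F (pull f (∏ i, g i ^ a i) * ν) ≤ C * phi e (∑ i, (a i).natAbs) := by
  obtain ⟨C, hC⟩ := bound_list k hA hf hS (sgn g) e hF he q
  refine ⟨C, fun ν hν a => ?_⟩
  obtain ⟨w, h1, h2⟩ := exists_word g a
  rw [← h1, ← h2]
  exact hC ν hν w

/-- Twisting by a fixed class, integer exponents. -/
theorem near_zpow [Fintype ι] (g : ι → Pic X) {e : ℕ} {F : Y.Modules} (hF : Coh.IsCoh F) (he : DimLT f (e + 1) F)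
    (g₀ : Pic X) (q : ℕ) : ∃ C : ℕ, ∀ ν ∈ S, ∀ a : ι → ℤ,
      Near (hq k q F (pull f (g₀ * ∏ i, g i ^ a i) * ν)) (hq k q F (pull f (∏ i, g i ^ a i) * ν))
        (C * phi e (∑ i, (a i).natAbs)) := by
  obtain ⟨C, hC⟩ := near_list k hA hf hS (sgn g) hF he g₀ q
  refine ⟨C, fun ν hν a => ?_⟩
  obtain ⟨w, h1, h2⟩ := exists_word g a
  rw [← h1, ← h2]
  exact hC ν hν w

/-- **Growth theorem**, powers of one class. -/
theorem bound_pow (g : Pic X) (e : ℕ) {F : Y.Modules} (hF : Coh.IsCoh F) (he : DimLT f e F) (q : ℕ) :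
    ∃ C : ℕ, ∀ ν ∈ S, ∀ m : ℕ, hq k q F (pull f (g ^ m) * ν) ≤ C * phi e m := by
  obtain ⟨C, hC⟩ := bound_list k hA hf hS (fun _ : Unit => g) e hF he q
  refine ⟨C, fun ν hν m => ?_⟩
  have := hC ν hν (List.replicate m ())
  rwa [List.map_replicate, List.prod_replicate, List.length_replicate] at this

/-- Twisting by a fixed class, powers of one class. -/
theorem near_pow (g : Pic X) {e : ℕ} {F : Y.Modules} (hF : Coh.IsCoh F) (he : DimLT f (e + 1) F)
    (g₀ : Pic X) (q : ℕ) : ∃ C : ℕ, ∀ ν ∈ S, ∀ m : ℕ,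
      Near (hq k q F (pull f (g₀ * g ^ m) * ν)) (hq k q F (pull f (g ^ m) * ν)) (C * phi e m) := by
  obtain ⟨C, hC⟩ := near_list k hA hf hS (fun _ : Unit => g) hF he g₀ q
  refine ⟨C, fun ν hν m => ?_⟩
  have := hC ν hν (List.replicate m ())
  rwa [List.map_replicate, List.prod_replicate, List.length_replicate] at this

end K433.Growth
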