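import Groth.Agent.Ega1.GlobGenPt

/-!
# A globally generated invertible module over an infinite field has a section generating at finitely many points
-/

set_option autoImplicit false
universe u
open CategoryTheory CategoryTheory.Limits AlgebraicGeometry Opposite TopologicalSpace

namespace K433.GenFinite

open Groth.Agent Groth.Agent.Fdesc.LocGen

variable (k : Type u) [Field k] {X : Scheme.{u}} [X.Over (Spec (CommRingCat.of k))]

/-- The scalars. -/
noncomputable def scal : k →+* Γ(X, ⊤) :=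
  ((Scheme.ΓSpecIso (CommRingCat.of k)).inv ≫ (X ↘ Spec (CommRingCat.of k)).appTop).hom

variable {B : X.Modules}

/-- The section `s + a t`. -/
noncomputable def comb (s t : Coh.structureModule X ⟶ B) (a : k) : Coh.structureModule X ⟶ B :=
  homOf (sec s ⊤ + (scal k a : Γ(X, ⊤)) • sec t ⊤)

theorem sec_comb (s t : Coh.structureModule X ⟶ B) (a : k) (U : X.Opens) :
    sec (comb k s t a) U = sec s U + (ores (le_top : U ≤ ⊤) (scal k a)) • sec t U := by
  rw [comb, sec_homOf, map_add, res_smul, res_sec, res_sec]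

theorem subsingleton_bad (hB : PicF.IsInvertible B) (s t : Coh.structureModule X ⟶ B) (z : X)
    (hz : z ∈ CohB1.genLocus B s ∨ z ∈ CohB1.genLocus B t) :
    {a : k | z ∉ CohB1.genLocus B (comb k s t a)}.Subsingleton := by
  intro a ha b hb
  by_contra hab
  obtain ⟨U, e, hzU, he⟩ := (isInvertible_iff B).mp hB z
  obtain ⟨f, hf⟩ := he.exists_eq (sec s U)
  obtain ⟨g, hg⟩ := he.exists_eq (sec t U)
  have hc : ∀ c : k, sec (comb k s t c) U = (f + ores (le_top : U ≤ ⊤) (scal k c) * g) • e := by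
    intro c
    rw [sec_comb, hf, hg, add_smul, mul_smul]
  have hmem : ∀ {v : Coh.structureModule X ⟶ B} {h : Γ(X, U)}, sec v U = h • e →
      (z ∈ CohB1.genLocus B v ↔ IsUnit (X.presheaf.germ U z hzU h)) := by
    intro v h hv
    rw [← Scheme.mem_basicOpen _ _ _ hzU, ← genLocus_inf_eq v he hv]
    exact ⟨fun h => ⟨h, hzU⟩, fun h => h.1⟩
  have ha' : ¬ IsUnit (X.presheaf.germ U z hzU (f + ores (le_top : U ≤ ⊤) (scal k a) * g)) :=
    fun h => ha ((hmem (hc a)).mpr h)
  have hb' : ¬ IsUnit (X.presheaf.germ U z hzU (f + ores (le_top : U ≤ ⊤) (scal k b) * g)) :=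
    fun h => hb ((hmem (hc b)).mpr h)
  rw [← mem_nonunits_iff, ← IsLocalRing.mem_maximalIdeal] at ha' hb'
  have hd := Ideal.sub_mem _ ha' hb'
  rw [← map_sub] at hd
  have e1 : f + ores (le_top : U ≤ ⊤) (scal k a) * g - (f + ores (le_top : U ≤ ⊤) (scal k b) * g) =
      ores (le_top : U ≤ ⊤) (scal k (a - b)) * g := by
    rw [map_sub, map_sub]; ring
  rw [e1, map_mul] at hd
  have hu : IsUnit (X.presheaf.germ U z hzU (ores (le_top : U ≤ ⊤) (scal k (a - b)))) := by
    refine IsUnit.map _ (IsUnit.map _ (IsUnit.map _ ?_))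
    exact isUnit_iff_ne_zero.mpr (sub_ne_zero.mpr hab)
  have hg' : X.presheaf.germ U z hzU g ∈ IsLocalRing.maximalIdeal (X.presheaf.stalk z) :=
    (Ideal.unit_mul_mem_iff_mem _ hu).mp hd
  have hf' : X.presheaf.germ U z hzU f ∈ IsLocalRing.maximalIdeal (X.presheaf.stalk z) := by
    rw [map_add, map_mul] at ha'
    exact (Ideal.add_mem_iff_left _ (Ideal.mul_mem_left _ _ hg')).mp ha'
  rw [IsLocalRing.mem_maximalIdeal, mem_nonunits_iff] at hg' hf'
  rcases hz with h | h
  · exact hf' ((hmem hf).mp h)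
  · exact hg' ((hmem hg).mp h)

include k in
theorem exists_gen_finite [Infinite k] (hB : PicF.IsInvertible B) (hg : Curv2.IsGloballyGenerated B) (Z : Set X)
    (hZ : Z.Finite) : ∃ s : Coh.structureModule X ⟶ B, Z ⊆ CohB1.genLocus B s := by
  induction Z, hZ using Set.Finite.induction_on with
  | empty => exact ⟨0, Set.empty_subset _⟩
  | @insert x Z _ hZ ih =>
    obtain ⟨s, hs⟩ := ih
    obtain ⟨t, ht⟩ := Ega1.GlobGenPt.exists_mem_genLocus hB hg x
    have hfin : (⋃ z ∈ insert x Z, {a : k | z ∉ CohB1.genLocus B (comb k s t a)}).Finite := by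
      refine Set.Finite.biUnion (hZ.insert x) fun z hz => ?_
      refine (subsingleton_bad k hB s t z ?_).finite
      rcases hz with rfl | hz
      · exact Or.inr ht
      · exact Or.inl (hs hz)
    obtain ⟨a, ha⟩ := hfin.exists_notMem
    refine ⟨comb k s t a, fun z hz => ?_⟩
    by_contra h
    exact ha (Set.mem_biUnion hz h)

end K433.GenFinite
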