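import Groth.Agent.Variety.K433.GrowthRank
import Groth.Agent.Pic13.H11.Core
import Groth.Agent.Ega3B.SerreTwist
import Groth.Agent.Pic13.H946.Growth

/-!
# Numerically trivial classes: uniform bounds and sections

`X` proper over a field `k` with an ample module `H`; `num0 k X` the subgroup of numerically trivial classes.
* `bdd_num0`: for `F` coherent, `h^q(F ⊗ ν)` is bounded for `ν` numerically trivial (all `q`).
* `exists_h0_eq`: `h⁰(H^m ⊗ N) = h⁰(H^m) > 0` for all large `m` and all numerically trivial `N`.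
-/

set_option autoImplicit false
universe u v
open CategoryTheory CategoryTheory.Limits AlgebraicGeometry Opposite TopologicalSpace

namespace K433.Num

open Groth.Agent Groth.Agent.Ega2 Groth.Agent.Fdesc.LocGen Groth.Agent.Fga.PicMon
open Groth.Agent.Grpsch.PicGrp K433.Hq K433.Growth
open Groth.Agent.Pic13.H945.DegAmple (num0 isNumEquivZero_iff_mem)

variable (k : Type u) [Field k] {X : Scheme.{u}} [X.Over (Spec (CommRingCat.of k))]
  [IsProper (X ↘ Spec (CommRingCat.of k))]

theorem num_rep {ν : Pic X} (h : ν ∈ num0 k X) : Pic13.IsNumEquivZero k X (rep ν) := by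
  rw [isNumEquivZero_iff_mem k X (rep_inv ν), mk_rep]
  exact h

variable {H : X.Modules} (hH : CohB1.IsAmple H)

include hH

/-- **Uniform bound** for the cohomology of numerically trivial twists. -/
theorem bdd_num0 : Bdd k (num0 k X : Set (Pic X)) := by
  have := Fga.HypSec.isNoetherian k X
  have := Fga.HypSec.isSeparated k X
  obtain ⟨d, hd⟩ := EtpbcA.CdFinDim.exists_dim_le (X ↘ Spec (CommRingCat.of k))
  have key : ∀ e : ℕ, ∀ F : X.Modules, Coh.IsCoh F → DimLT (𝟙 X) e F → ∀ q : ℕ,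
      ∃ C : ℕ, ∀ ν ∈ (num0 k X : Set (Pic X)), hq k q F ν ≤ C := by
    intro e
    induction e with
    | zero =>
      intro F _ he q
      exact ⟨0, fun ν _ => by rw [hq_eq_zero k q (dimLT_zero_iff.mp he)]⟩
    | succ e ih =>
      intro F hF he q
      have hgood := Pic13.H11.Core.good (k := k) hH F hF
      cases q with
      | zero =>
        obtain ⟨B, hB⟩ := hgood.bh
        exact ⟨B, fun ν hν => hB (rep ν) (rep_inv ν) (num_rep k hν)⟩
      | succ q =>
        obtain ⟨p₀, hp₀⟩ := hgood.van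
        have hHp := isInvertible_tensorPow hH.1 p₀
        obtain ⟨G₁, G₂, hG₁, hG₂, he₁, he₂, hn⟩ := exists_diff k hH (𝟙 X) (isClosedMap_id' X) hF he
          (mk (CohB1.tensorPow H p₀) hHp)
        obtain ⟨C₁, hC₁⟩ := ih G₁ hG₁ he₁ q
        obtain ⟨C₂, hC₂⟩ := ih G₁ hG₁ he₁ (q + 1)
        obtain ⟨C₃, hC₃⟩ := ih G₂ hG₂ he₂ q
        obtain ⟨C₄, hC₄⟩ := ih G₂ hG₂ he₂ (q + 1)
        refine ⟨(C₁ + C₂) + (C₃ + C₄), fun ν hν => ?_⟩
        have h1 := (hn (q + 1) ν).2
        rw [pull_id] at h1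
        have h2 : hq k (q + 1) F (mk (CohB1.tensorPow H p₀) hHp * ν) = 0 := by
          have h3 := hh_of_subsingleton k (hp₀ (rep ν) (rep_inv ν) (num_rep k hν) p₀ le_rfl (q + 1) (by omega))
          rw [← h3]
          refine hh_congr k ?_ _
          rw [mc_tensor, mc_tensor, mc_tensor, mc_rep_mul, mc_rep hHp rfl, mul_assoc, mul_comm (mc (rep ν))]
        rw [h2, zero_add, Nat.add_sub_cancel] at h1
        exact h1.trans (Nat.add_le_add (Nat.add_le_add (hC₁ ν hν) (hC₂ ν hν)) (Nat.add_le_add (hC₃ ν hν) (hC₄ ν hν)))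
  intro F hF q
  exact key (d + 1) F hF (dimLT_of_dim_le hd F) q

omit hH in
/-- `χ = h⁰` if the higher cohomology vanishes. -/
theorem _root_.K433.Num.euler_eq_h_zero (k : Type u) [Field k] {X : Scheme.{u}} [X.Over (Spec (CommRingCat.of k))]
    (M : X.Modules) (h : ∀ i, 1 ≤ i → Subsingleton (Coh.HH X M i)) : Curv2.euler k X M = hh k M 0 := by
  rw [VarietyA.EulerAdd.euler_eq_sum k M 1 h, hh_def]
  simp

/-- `h⁰(H^m ⊗ N) = h⁰(H^m) > 0` for all large `m` and all numerically trivial `N`. -/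
theorem exists_h0_eq [Nonempty X] : ∃ m₀ : ℕ, ∀ m : ℕ, m₀ ≤ m → (∀ N : X.Modules, PicF.IsInvertible N →
    Pic13.IsNumEquivZero k X N → hh k (CohB1.tensorMod (CohB1.tensorPow H m) N) 0 = hh k (CohB1.tensorPow H m) 0) ∧
      0 < hh k (CohB1.tensorPow H m) 0 := by
  have := Fga.HypSec.isNoetherian k X
  have hO : Coh.IsCoh (Coh.structureModule X) := Fdesc.StructMod.isCoh_structureModule X
  obtain ⟨p₀, hp₀⟩ := (Pic13.H11.Core.good (k := k) hH (Coh.structureModule X) hO).van
  have h0 : ¬ IsZero (Coh.structureModule X) := by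
    intro h
    have h1 := CohqB.DevSupport.support_eq_empty_of_isZero h
    rw [Pic13.H946.Growth.support_unit] at h1
    exact (Set.univ_nonempty (α := X)).ne_empty h1
  obtain ⟨n₀, hn₀⟩ := Ega3B.SerreTwist.exists_serre_nontrivial (X ↘ Spec (CommRingCat.of k)) hH hO h0
  refine ⟨max p₀ n₀, fun m hm => ?_⟩
  have hm1 : p₀ ≤ m := (le_max_left _ _).trans hm
  have hm2 : n₀ ≤ m := (le_max_right _ _).trans hm
  have hLm : Coh.IsCoh (CohB1.tensorPow H m) := Fga.HodgeSec.isCoh_of_isInvertible (isInvertible_tensorPow hH.1 m)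
  have e2 : mc (CohB1.tensorMod (Coh.structureModule X) (CohB1.tensorPow H m)) = mc (CohB1.tensorPow H m) := by
    rw [mc_tensor, mc_one, one_mul]
  have v2 : ∀ i, 1 ≤ i → Subsingleton (Coh.HH X (CohB1.tensorPow H m) i) := fun i hi =>
    Pic13.H946.CoreGood.hh_congr e2 ((hn₀ m hm2).1 i hi)
  refine ⟨fun N hN hnum => ?_, ?_⟩
  · have chi := (Pic13.H11.Core.good (k := k) hH (CohB1.tensorPow H m) hLm).chi N hN hnum
    have v1 : ∀ i, 1 ≤ i → Subsingleton (Coh.HH X (CohB1.tensorMod (CohB1.tensorPow H m) N) i) := fun i hi =>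
      Pic13.H946.CoreGood.hh_congr (by rw [mc_tensor, mc_tensor, mc_tensor, mc_one, one_mul, mul_comm])
        (hp₀ N hN hnum m hm1 i hi)
    rw [euler_eq_h_zero k _ v1, euler_eq_h_zero k _ v2] at chi
    exact_mod_cast chi
  · have h3 := (hn₀ m hm2).2.2.1
    rw [← hh_congr k e2 0, hh_def]
    have hfin : Module.Finite k (Coh.HH X (CohB1.tensorMod (Coh.structureModule X) (CohB1.tensorPow H m)) 0) :=
      S0002.result k X _ (Fga.TwistCoh.isCoh_tensor hO (isInvertible_tensorPow hH.1 m)) 0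
    exact Module.finrank_pos

/-- A class `a₀` such that all `a₀ ν`, `ν` numerically trivial, have nonzero sections. -/
theorem exists_class [Nonempty X] : ∃ a₀ : Pic X, ∀ ν ∈ num0 k X, 0 < hq k 0 (Coh.structureModule X) (a₀ * ν) := by
  obtain ⟨m, hm⟩ := exists_h0_eq k hH
  have hHm := isInvertible_tensorPow hH.1 m
  refine ⟨mk (CohB1.tensorPow H m) hHm, fun ν hν => ?_⟩
  obtain ⟨h1, h2⟩ := hm m le_rfl
  rw [← h1 (rep ν) (rep_inv ν) (num_rep k hν)] at h2
  refine h2.trans_eq ?_
  conv_rhs => rw [← mk_rep ν, mk_mul_mk, hq_unit]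

omit hH [IsProper (X ↘ Spec (CommRingCat.of k))] in
/-- A nonzero section. -/
theorem exists_section_ne_zero {M : X.Modules} (h : 0 < hh k M 0) : ∃ s : Coh.structureModule X ⟶ M, s ≠ 0 := by
  have h1 : Nontrivial (Coh.HH X M 0) := by
    by_contra hcon
    rw [not_nontrivial_iff_subsingleton] at hcon
    rw [hh_of_subsingleton k hcon] at h
    exact lt_irrefl _ h
  have h2 : Nontrivial Γ(M, ⊤) := (CurvesB.HZero.equivAdd M).symm.toEquiv.nontrivial
  obtain ⟨t, ht⟩ := exists_ne (0 : Γ(M, ⊤))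
  refine ⟨homOf t, fun h0 => ht ?_⟩
  have h3 := congrArg (fun s => sec s ⊤) h0
  simp only [sec_homOf, res_refl] at h3
  exact h3

end K433.Num
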