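import Groth.Agent.Variety.K433.NumBdd
import Groth.Agent.Variety.K433.HhatEq
import Groth.Agent.Variety.K433.GrowthId
import Groth.Agent.Variety.K433.GrowthLim

/-!
# Volumes and numerical equivalence; big invertible modules (helper433)

* `h0_mul_pos`, `h0_le_mul`: multiplication by a section on an integral scheme.
* `limsup_eq_of_num`: the volume only depends on the numerical class.
* `exists_pow_pos_of_big`.
-/

set_option autoImplicit false
universe u v
open CategoryTheory CategoryTheory.Limits AlgebraicGeometry Opposite TopologicalSpace Filter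
open scoped ENNReal

namespace K433.Num

open Groth.Agent Groth.Agent.Ega2 Groth.Agent.Fdesc.LocGen Groth.Agent.Fga.PicMon Groth.Agent.Fga.RegSec
open Groth.Agent.Grpsch.PicGrp K433.Hq K433.Growth Groth.Agent.CohqB.SerTw
open Groth.Agent.Pic13.H945.DegAmple (num0 isNumEquivZero_iff_mem)
open Groth.Agent.Pic13.H946.Core (cokSeq cokSeq_shortExact)

variable (k : Type u) [Field k] {X : Scheme.{u}} [X.Over (Spec (CommRingCat.of k))]
  [IsProper (X ↘ Spec (CommRingCat.of k))] [IsIntegral X]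

theorem _root_.K433.Num.group_aux {G : Type*} [CommGroup G] (x y z : G) (i : ℕ) :
    x ^ i * ((x⁻¹) ^ (i + 1) * y * (x * z)) = y * z := by
  have : ∀ (A : Type _) [AddCommGroup A] (x y z : A) (i : ℕ), i • x + ((i + 1) • (-x) + y + (x + z)) = y + z := by
    intro A _ x y z i
    rw [succ_nsmul, smul_neg]
    abel
  exact this (Additive G) x y z i

omit [IsIntegral X] in
theorem hq_zero_le {S : ShortComplex X.Modules} (hS : S.ShortExact) (h2 : Coh.IsCoh S.X₂) (c : Pic X) :
    hq k 0 S.X₁ c ≤ hq k 0 S.X₂ c :=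
  hh_left_aux_zero k (S.map (tw (rep c))) (shortExact_tw (rep_inv c) hS)
    (S0002.result k X _ (Fga.TwistCoh.isCoh_tensor h2 (rep_inv c)) 0)

/-- Multiplication by a section of the class `a` on an integral scheme. -/
theorem h0_le_mul {a : Pic X} (ha : 0 < hq k 0 (Coh.structureModule X) a) (c : Pic X) :
    hq k 0 (Coh.structureModule X) c ≤ hq k 0 (Coh.structureModule X) (a * c) := by
  have := Fga.HypSec.isNoetherian k X
  have h0 : 0 < hh k (rep a) 0 := by
    rwa [← mk_rep a, hq_unit] at ha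
  obtain ⟨s, hs⟩ := exists_section_ne_zero k h0
  have hN := rep_inv a
  have hmono : Mono s := CurvesB.RankOne.mono_of_ne_zero (CurvesB.InvEmb.locEmb_of_isInvertible hN) s hs
  have hNc : Coh.IsCoh (rep a) := Fga.HodgeSec.isCoh_of_isInvertible hN
  refine (hq_zero_le k (cokSeq_shortExact s) hNc c).trans_eq ?_
  change hq k 0 (rep a) c = _
  refine hh_congr k ?_ 0
  rw [mc_tensor, mc_tensor, mc_rep_mul a c, mc_one, one_mul]

/-- Products of sections. -/
theorem h0_mul_pos {a b : Pic X} (ha : 0 < hq k 0 (Coh.structureModule X) a)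
    (hb : 0 < hq k 0 (Coh.structureModule X) b) : 0 < hq k 0 (Coh.structureModule X) (a * b) :=
  hb.trans_le (h0_le_mul k ha b)

theorem h0_pow_pos {a : Pic X} (ha : 0 < hq k 0 (Coh.structureModule X) a) {j : ℕ} (hj : 0 < j) :
    0 < hq k 0 (Coh.structureModule X) (a ^ j) := by
  induction j, hj using Nat.le_induction with
  | base => simpa using ha
  | succ j _ ih => rw [pow_succ]; exact h0_mul_pos k ih ha

omit [IsProper (X ↘ Spec (CommRingCat.of k))] [IsIntegral X] in
theorem vol_eq {L : X.Modules} (hL : PicF.IsInvertible L) (d : ℕ) :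
    (fun m : ℕ => (Module.finrank k (Coh.HH X (CohB1.tensorPow L m) 0) : ℝ≥0∞) / (m : ℝ≥0∞) ^ d) =
      fun m : ℕ => (hq k 0 (Coh.structureModule X) (mk L hL ^ m) : ℝ≥0∞) / (m : ℝ≥0∞) ^ d := by
  funext m
  rw [← hh_tensorPow k 0 hL m, hh_def]

theorem phi_tendsto (d C : ℕ) : Tendsto (fun m : ℕ => ((C * phi d m : ℕ) : ℝ≥0∞) / (m : ℝ≥0∞) ^ d) atTop (nhds 0) := by
  have h := ENNReal.tendsto_ofReal (tendsto_phi_div d (C : ℝ))
  rw [ENNReal.ofReal_zero] at h
  refine h.congr' ?_
  filter_upwards [eventually_gt_atTop 0] with m hm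
  have hm' : (0 : ℝ) < (m : ℝ) ^ d := by
    have : (0 : ℝ) < m := by exact_mod_cast hm
    positivity
  rw [ENNReal.ofReal_div_of_pos hm', ENNReal.ofReal_pow (Nat.cast_nonneg m), ENNReal.ofReal_natCast]
  congr 1
  rw [← Nat.cast_mul, ENNReal.ofReal_natCast]

variable {H : X.Modules} (hH : CohB1.IsAmple H) {d : ℕ} (hd : topologicalKrullDim X ≤ d)

include hH hd

theorem limsup_le_of_num (g ν : Pic X) (hν : ν ∈ num0 k X) :
    limsup (fun m : ℕ => (hq k 0 (Coh.structureModule X) ((g * ν) ^ m) : ℝ≥0∞) / (m : ℝ≥0∞) ^ d) atTop ≤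
      limsup (fun m : ℕ => (hq k 0 (Coh.structureModule X) (g ^ m) : ℝ≥0∞) / (m : ℝ≥0∞) ^ d) atTop := by
  have hO : Coh.IsCoh (Coh.structureModule X) := by
    have := Fga.HypSec.isNoetherian k X
    exact Fdesc.StructMod.isCoh_structureModule X
  have hdim : topologicalKrullDim (CohB1.support (Coh.structureModule X)) ≤ d :=
    (Topology.IsInducing.subtypeVal.topologicalKrullDim_le).trans hd
  obtain ⟨a₀, ha₀⟩ := exists_class k hH
  obtain ⟨C, hC⟩ := step_pow k hH g hO hdim a₀ 0
  have h1 : ∀ m : ℕ, hq k 0 (Coh.structureModule X) ((g * ν) ^ m) ≤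
      hq k 0 (Coh.structureModule X) (g ^ m) + C * phi d m := by
    intro m
    have h2 := h0_le_mul k (ha₀ _ (inv_mem (pow_mem hν m))) ((g * ν) ^ m)
    rw [mul_pow, mul_assoc, mul_comm (ν ^ m)⁻¹, mul_assoc, mul_inv_cancel, mul_one] at h2
    rw [mul_pow]
    exact h2.trans (hC m).1
  refine le_trans ?_ (ENNReal.limsup_add_of_right_tendsto_zero (phi_tendsto d C) _).le
  refine limsup_le_limsup (Eventually.of_forall fun m => ?_)
  rw [Pi.add_apply, ← ENNReal.add_div]
  exact ENNReal.div_le_div_right (by exact_mod_cast h1 m) _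

/-- The volume only depends on the numerical class. -/
theorem limsup_eq_of_num {L N : X.Modules} (hL : PicF.IsInvertible L) (hN : PicF.IsInvertible N)
    (hNum : Pic13.IsNumEquivZero k X N) :
    limsup (fun m : ℕ => (Module.finrank k (Coh.HH X (CohB1.tensorPow (CohB1.tensorMod L N) m) 0) : ℝ≥0∞) /
        (m : ℝ≥0∞) ^ d) atTop =
      limsup (fun m : ℕ => (Module.finrank k (Coh.HH X (CohB1.tensorPow L m) 0) : ℝ≥0∞) /
        (m : ℝ≥0∞) ^ d) atTop := by
  have hν : mk N hN ∈ num0 k X := (isNumEquivZero_iff_mem k X hN).1 hNum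
  rw [vol_eq k (isInvertible_tensorMod hL hN), vol_eq k hL, ← mk_mul_mk hL hN]
  refine le_antisymm (limsup_le_of_num k hH hd _ _ hν) ?_
  have := limsup_le_of_num k hH hd (mk L hL * mk N hN) (mk N hN)⁻¹ (inv_mem hν)
  rwa [mul_inv_cancel_right] at this

/-- Big invertible modules. -/
theorem exists_pow_pos_of_big {L : X.Modules} (hL : PicF.IsInvertible L)
    (hbig : 0 < liminf (fun m : ℕ => (Module.finrank k (Coh.HH X (CohB1.tensorPow L m) 0) : ℝ≥0∞) /
        (m : ℝ≥0∞) ^ d) atTop) :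
    ∃ a : ℕ, 0 < a ∧ ∀ j : ℕ, 0 < j → ∀ N : X.Modules, PicF.IsInvertible N → Pic13.IsNumEquivZero k X N →
      0 < Module.finrank k (Coh.HH X (CohB1.tensorMod (CohB1.tensorPow L (a * j)) N) 0) := by
  have hO : Coh.IsCoh (Coh.structureModule X) := by
    have := Fga.HypSec.isNoetherian k X
    exact Fdesc.StructMod.isCoh_structureModule X
  have hdim : topologicalKrullDim (CohB1.support (Coh.structureModule X)) ≤ d :=
    (Topology.IsInducing.subtypeVal.topologicalKrullDim_le).trans hd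
  rw [vol_eq k hL] at hbig
  obtain ⟨b, hb⟩ := exists_class k hH
  obtain ⟨C, hC⟩ := step_pow k hH (mk L hL) hO hdim b⁻¹ 0
  -- some `L^a b⁻¹` has sections
  obtain ⟨a, ha, hpos⟩ : ∃ a : ℕ, 0 < a ∧ 0 < hq k 0 (Coh.structureModule X) (b⁻¹ * mk L hL ^ a) := by
    by_contra hcon
    push Not at hcon
    have h1 : ∀ m : ℕ, 0 < m → hq k 0 (Coh.structureModule X) (mk L hL ^ m) ≤ C * phi d m := by
      intro m hm
      have h2 := hcon m hm
      have h3 := (hC m).2
      omega
    have h2 : liminf (fun m : ℕ => (hq k 0 (Coh.structureModule X) (mk L hL ^ m) : ℝ≥0∞) / (m : ℝ≥0∞) ^ d) atTop ≤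
        liminf (fun m : ℕ => ((C * phi d m : ℕ) : ℝ≥0∞) / (m : ℝ≥0∞) ^ d) atTop := by
      refine liminf_le_liminf ?_
      filter_upwards [eventually_gt_atTop 0] with m hm
      exact ENNReal.div_le_div_right (by exact_mod_cast h1 m hm) _
    rw [(phi_tendsto d C).liminf_eq] at h2
    exact absurd hbig (not_lt.mpr h2)
  refine ⟨a, ha, fun j hj N hN hnum => ?_⟩
  have hν : mk N hN ∈ num0 k X := (isNumEquivZero_iff_mem k X hN).1 hnum
  have key : 0 < hq k 0 (Coh.structureModule X) (mk L hL ^ (a * j) * mk N hN) := by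
    obtain ⟨i, rfl⟩ : ∃ i, j = i + 1 := ⟨j - 1, by omega⟩
    have hb1 : 0 < hq k 0 (Coh.structureModule X) b := by simpa using hb 1 (one_mem _)
    have h3 := h0_mul_pos k (h0_pow_pos k hpos (Nat.succ_pos i)) (hb (mk N hN) hν)
    have h4 : 0 < hq k 0 (Coh.structureModule X) (b ^ i * ((b⁻¹ * mk L hL ^ a) ^ (i + 1) * (b * mk N hN))) := by
      rcases Nat.eq_zero_or_pos i with rfl | hi
      · simpa using h3
      · exact h0_mul_pos k (h0_pow_pos k hb1 hi) h3
    convert h4 using 2
    rw [mul_pow, ← pow_mul]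
    exact (group_aux b _ _ i).symm
  have e : hq k 0 (Coh.structureModule X) (mk L hL ^ (a * j) * mk N hN) =
      hh k (CohB1.tensorMod (CohB1.tensorPow L (a * j)) N) 0 := by
    rw [← mk_tensorPow hL, mk_mul_mk (isInvertible_tensorPow hL _) hN, hq_unit]
  rwa [e] at key

end K433.Num
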