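import Groth.Agent.Variety.K433.PushAcyc

/-!
# Cohomology of pulled back invertible modules under a generically finite morphism (helper433)

For `f : Y ⟶ X` a morphism of integral schemes proper over `k`, `X` and `Y` with ample modules, generically finite of
degree `d`: `h^q(Y, f^* g^m) = d · h^q(X, g^m) + O(m^(n-1))`.
-/

set_option autoImplicit false
universe u

open CategoryTheory CategoryTheory.Limits AlgebraicGeometry Opposite TopologicalSpace

namespace K433.PushGF

open Groth.Agent Groth.Agent.Grpsch.PicGrp Groth.Agent.Fdesc.LocGen K433.Hq K433.Growth Groth.Agent.VarietyA.DegRank K433.PushRank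

section

variable (k : Type u) [Field k] {X Y : Scheme.{u}} [X.Over (Spec (CommRingCat.of k))]
  [Y.Over (Spec (CommRingCat.of k))] (f : Y ⟶ X)
  (hf : f ≫ (X ↘ Spec (CommRingCat.of k)) = Y ↘ Spec (CommRingCat.of k))

include hf

/-- Cohomology of the twists of an acyclic module by classes from the base. -/
theorem hq_push [HasInjectiveResolutions Y.Modules] [QuasiCompact f] [QuasiSeparated f] {G : Y.Modules}
    (hG : PicF.IsInvertible G) (hz : ∀ q, 1 ≤ q → IsZero ((Coh.Rpush f q).obj G)) (q : ℕ) (c : Pic X) :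
    hq k q G (pull f c) = hq k q ((Coh.push f).obj G) c := by
  obtain ⟨E, hE, rfl⟩ : ∃ (E : X.Modules) (hE : PicF.IsInvertible E), mk E hE = c := ⟨rep c, rep_inv c, mk_rep c⟩
  have hinv : PicF.IsInvertible (CohB1.tensorMod ((Scheme.Modules.pullback f).obj E) G) :=
    Groth.Agent.Fdesc.LocGen.isInvertible_tensorMod (isInvertible_pullback f hE) hG
  have hac := acyc_of_isZero f (Groth.Agent.Ega2.GlobGenCrit.isInvertible_isQCoh hinv)
    fun q hq => isZero_tensor f (hz q hq) hE
  obtain ⟨e⟩ := VarietyB.HHPush.exists_equiv f k hf q _ hac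
  obtain ⟨e'⟩ := push_tensor f G hE
  have h1 : hh k ((Coh.push f).obj (CohB1.tensorMod ((Scheme.Modules.pullback f).obj E) G)) q =
      hh k (CohB1.tensorMod ((Scheme.Modules.pullback f).obj E) G) q :=
    ((VarietyB.HHLes.toHH k _ q).symm.trans (e.trans (VarietyB.HHLes.toHH k _ q))).finrank_eq
  rw [pull_mk, hq_mk, hq_mk, hh_iso k (Groth.Agent.Ega2.Tens.swap _ _) q, ← h1, hh_iso k e' q,
    hh_iso k (Groth.Agent.Ega2.Tens.swap _ _) q]

end

section

variable (k : Type u) [Field k] {X Y : Scheme.{u}} [X.Over (Spec (CommRingCat.of k))]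
  [Y.Over (Spec (CommRingCat.of k))] [IsIntegral X] [IsIntegral Y] [IsProper (X ↘ Spec (CommRingCat.of k))]
  [IsProper (Y ↘ Spec (CommRingCat.of k))] {A : X.Modules} (hA : CohB1.IsAmple A) {B : Y.Modules}
  (hB : CohB1.IsAmple B) (f : Y ⟶ X) (hf : f ≫ (X ↘ Spec (CommRingCat.of k)) = Y ↘ Spec (CommRingCat.of k))
  (hdom : f (genericPoint Y) = genericPoint X) (hd : 0 < f.residueDegree (genericPoint Y))

theorem _root_.K433.PushGF.krullDim_univ (T : Type*) [TopologicalSpace T] :
    topologicalKrullDim (Set.univ : Set T) = topologicalKrullDim T :=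
  (Homeomorph.Set.univ T).isHomeomorph.topologicalKrullDim_eq

include hf hdom hd in
theorem dim_eq {n : ℕ} (hn : topologicalKrullDim X = n) : topologicalKrullDim Y = n := by
  obtain ⟨δX, hX⟩ := CycB.SetupLft.exists_deltaCompat (X ↘ Spec (CommRingCat.of k)) (fun _ => 0)
  obtain ⟨δY, hY⟩ := CycB.SetupLft.exists_deltaCompat (Y ↘ Spec (CommRingCat.of k)) (fun _ => 0)
  have h := deltaCompat_of_comp (δX := δY) (δY := δX) (δS := fun _ => 0) f (X ↘ Spec (CommRingCat.of k))
    (by rwa [hf]) hX
  have h2 := delta_eq_of_residueDegree_pos f h _ hd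
  obtain ⟨a, ha, ha'⟩ := CycB.DegReduce.dim_closure k (X ↘ Spec (CommRingCat.of k)) δX hX (genericPoint X)
  obtain ⟨b, hb, hb'⟩ := CycB.DegReduce.dim_closure k (Y ↘ Spec (CommRingCat.of k)) δY hY (genericPoint Y)
  rw [(genericPoint_spec X).def, krullDim_univ, hn] at ha'
  rw [(genericPoint_spec Y).def, krullDim_univ] at hb'
  rw [hb']
  rw [hdom, hb, ha] at h2
  have h3 : n = a := by exact_mod_cast ha'
  have h4 : b = a := by exact_mod_cast h2
  rw [h4, h3]

include hA hB hf hdom hd in
/-- **Pullback under a generically finite morphism.** -/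
theorem near_pull {n : ℕ} (hn : topologicalKrullDim X = n) (g : Pic X) (q : ℕ) :
    ∃ C : ℕ, ∀ m : ℕ, Near (hq k q (Coh.structureModule Y) (pull f g ^ m))
      (f.residueDegree (genericPoint Y) * hq k q (Coh.structureModule X) (g ^ m)) (C * phi n m) := by
  have hpf : IsProper f := by
    have : IsProper (f ≫ (X ↘ Spec (CommRingCat.of k))) := by rw [hf]; infer_instance
    exact IsProper.of_comp f (X ↘ Spec (CommRingCat.of k))
  have : IsNoetherian X :=
    Groth.Agent.VarietyA.GlobGen.isNoetherian_of_finiteType (X ↘ (Spec (CommRingCat.of k)))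
  have : IsNoetherian Y :=
    Groth.Agent.VarietyA.GlobGen.isNoetherian_of_finiteType (Y ↘ (Spec (CommRingCat.of k)))
  have := hasInj Y
  obtain ⟨G, hG, hz⟩ := exists_acyclic f hB
  have hGc : Coh.IsCoh G := Groth.Agent.Fdesc.CurveMap.isCoh_of_isInvertible hG
  have hpG := isCoh_push f hGc
  have hrk : rk ((Coh.push f).obj G) = f.residueDegree (genericPoint Y) := by
    rw [rk_push f f.isClosedMap hdom
      (eq_genericPoint_of_map k (X ↘ Spec (CommRingCat.of k)) (Y ↘ Spec (CommRingCat.of k)) f hf hdom hd) hd hGc hpG,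
      show rk G = 1 from S1530.finrank_stalk_one hG, one_mul]
  obtain ⟨C₁, h₁⟩ := rank_pow k hA g hn.le hpG q
  have hdY := dim_eq k f hf hdom hd hn
  obtain ⟨C₂, h₂⟩ := step_pow k hB (pull f g) (F := Coh.structureModule Y)
    (Groth.Agent.Fdesc.StructMod.isCoh_structureModule Y)
    ((Topology.IsInducing.subtypeVal.topologicalKrullDim_le).trans hdY.le) (mk G hG) q
  refine ⟨C₂ + C₁, fun m => ?_⟩
  have e1 := h₁ m
  rw [hrk, ← hq_push k f hf hG hz q (g ^ m), map_pow] at e1
  have e2 := h₂ m
  rw [← hq_tensor k q (Coh.structureModule Y) hG, hq_congr k q ⟨Groth.Agent.Ega2.Tens.lunit G⟩] at e2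
  rw [add_mul]
  exact e2.symm.trans e1

end

end K433.PushGF
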