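import Groth.Agent.Variety.K433.FibConst
import Groth.Agent.Etalg.NormalDvr
import Groth.Prelude.Def_Pi1
import Mathlib.RingTheory.LocalProperties.IntegrallyClosed
import Mathlib.AlgebraicGeometry.Morphisms.FiniteType
import Mathlib.AlgebraicGeometry.Noetherian
import Mathlib.AlgebraicGeometry.FunctionField

/-!
# Functions constant on the fibres of a surjective morphism to a normal scheme descend
-/

set_option autoImplicit false
universe u

open CategoryTheory AlgebraicGeometry Opposite TopologicalSpace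

namespace K433.FibConstSch

theorem isIntegrallyClosed_section {X : Scheme.{u}} [IsIntegral X] (hX : Pi1.IsNormalScheme X)
    {U : X.Opens} (hU : IsAffineOpen U) [Nonempty U] : IsIntegrallyClosed Γ(X, U) := by
  refine IsIntegrallyClosed.of_localization_maximal fun p _ hp => ?_
  let y : PrimeSpectrum Γ(X, U) := ⟨p, hp.isPrime⟩
  have hy : hU.fromSpec y ∈ U := by
    rw [← SetLike.mem_coe, ← hU.range_fromSpec]; exact ⟨y, rfl⟩
  let := TopCat.Presheaf.algebra_section_stalk X.presheaf ⟨hU.fromSpec y, hy⟩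
  have : IsLocalization p.primeCompl (X.presheaf.stalk (hU.fromSpec y)) :=
    hU.isLocalization_stalk' y hy
  have h2 := (hX (hU.fromSpec y)).2
  exact .of_equiv (IsLocalization.algEquiv p.primeCompl (X.presheaf.stalk (hU.fromSpec y))
    (Localization.AtPrime p)).toRingEquiv

variable {X Y : Scheme.{u}} [IsIntegral X] [IsIntegral Y] (f : X ⟶ Y) (hf : Function.Surjective f.base)

omit [IsIntegral X] in
include hf in
theorem app_injective (V : Y.Opens) : Function.Injective (f.app V).hom := by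
  rw [injective_iff_map_eq_zero]
  intro a ha
  by_contra h0
  have hb : (Y.basicOpen a : Set Y).Nonempty := by
    rw [Set.nonempty_iff_ne_empty]
    intro h
    apply h0
    rw [← basicOpen_eq_bot_iff]
    exact Opens.ext h
  obtain ⟨y, hy⟩ := hb
  obtain ⟨x, rfl⟩ := hf y
  have h1 : x ∈ f ⁻¹ᵁ Y.basicOpen a := hy
  rw [Scheme.preimage_basicOpen] at h1
  erw [ha] at h1
  rw [Scheme.basicOpen_zero] at h1
  exact h1

include hf in
/-- If `s` is a fraction of sections of `Y` over an affine open of a normal noetherian `Y`, it is a section. -/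
theorem exists_of_frac [IsLocallyNoetherian Y] (hY : Pi1.IsNormalScheme Y) {V : Y.Opens} (hV : IsAffineOpen V)
    [Nonempty V] (s : Γ(X, f ⁻¹ᵁ V)) (a b : Γ(Y, V)) (hb : b ≠ 0) (h : s * f.app V b = f.app V a) :
    ∃ r : Γ(Y, V), f.app V r = s := by
  have : IsIntegrallyClosed Γ(Y, V) := isIntegrallyClosed_section hY hV
  have : IsNoetherianRing Γ(Y, V) := IsLocallyNoetherian.component_noetherian ⟨V, hV⟩
  have hne : Nonempty (f ⁻¹ᵁ V : X.Opens) := by
    obtain ⟨y, hy⟩ := (inferInstance : Nonempty V)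
    obtain ⟨x, rfl⟩ := hf y
    exact ⟨⟨x, hy⟩⟩
  have hbX : f.app V b ≠ 0 := by
    rw [Ne, map_eq_zero_iff _ (app_injective f hf V)]
    exact hb
  by_cases hab : a ∈ Ideal.span {b}
  · rw [Ideal.mem_span_singleton'] at hab
    obtain ⟨r, rfl⟩ := hab
    refine ⟨r, ?_⟩
    rw [map_mul] at h
    exact (mul_right_cancel₀ hbX h).symm
  exfalso
  obtain ⟨P, hP, -, hdvr, hs⟩ := Groth.Agent.Etalg.NormalDvr.exists_dvr_prime_of_notMem_span _ hb hab
  -- compare `a` and `b` in the valuation ring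
  have key : ∃ t ∉ P, ∃ c ∈ P, t * b = a * c := by
    have hinj : Function.Injective (algebraMap Γ(Y, V) (Localization.AtPrime P)) :=
      IsLocalization.injective _ P.primeCompl_le_nonZeroDivisors
    rcases ValuationRing.dvd_total (algebraMap Γ(Y, V) (Localization.AtPrime P) b) (algebraMap Γ(Y, V) (Localization.AtPrime P) a) with h1 | h1
    · exfalso
      obtain ⟨c, hc⟩ := h1
      obtain ⟨⟨c0, t⟩, hct⟩ := IsLocalization.surj P.primeCompl c
      dsimp only at hct
      apply t.2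
      apply hs
      rw [Ideal.mem_span_singleton']
      refine ⟨c0, hinj ?_⟩
      rw [map_mul, map_mul, hc, ← hct]
      ring
    · obtain ⟨c, hc⟩ := h1
      obtain ⟨⟨c0, t⟩, hct⟩ := IsLocalization.surj P.primeCompl c
      dsimp only at hct
      have h3 : (t : Γ(Y, V)) * b = a * c0 := by
        apply hinj
        rw [map_mul, map_mul, hc, ← hct]
        ring
      refine ⟨t, t.2, c0, ?_, h3⟩
      apply hs
      rw [mul_comm, ← h3, Ideal.mem_span_singleton']
      exact ⟨t, rfl⟩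
  obtain ⟨t, ht, c, hc, htc⟩ := key
  have h2 : f.app V t = s * f.app V c := by
    apply mul_right_cancel₀ hbX
    rw [← map_mul, htc, map_mul, ← h]
    ring
  let y : Y := hV.fromSpec ⟨P, hP⟩
  obtain ⟨x, hx⟩ := hf y
  have hyt : y ∈ Y.basicOpen t := by
    change (⟨P, hP⟩ : PrimeSpectrum _) ∈ hV.fromSpec ⁻¹ᵁ Y.basicOpen t
    rw [hV.fromSpec_preimage_basicOpen]
    exact ht
  have hyc : y ∉ Y.basicOpen c := by
    change (⟨P, hP⟩ : PrimeSpectrum _) ∉ hV.fromSpec ⁻¹ᵁ Y.basicOpen c
    rw [hV.fromSpec_preimage_basicOpen]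
    exact fun h => h hc
  have hxt : x ∈ X.basicOpen (f.app V t) := by
    rw [← Scheme.preimage_basicOpen]
    change f.base x ∈ Y.basicOpen t
    rw [hx]
    exact hyt
  rw [h2, Scheme.basicOpen_mul] at hxt
  have hxc : x ∈ X.basicOpen (f.app V c) := hxt.2
  rw [← Scheme.preimage_basicOpen] at hxc
  apply hyc
  rw [← hx]
  exact hxc

section Field

variable (k : Type u) [Field k] [IsAlgClosed k] [CharZero k] (p : X ⟶ Spec (CommRingCat.of k))
  (q : Y ⟶ Spec (CommRingCat.of k)) [LocallyOfFiniteType p] [IsLocallyNoetherian Y]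

/-- The structure map from the base field to the sections over an open. -/
noncomputable def toSec {Z : Scheme.{u}} (r : Z ⟶ Spec (CommRingCat.of k)) (W : Z.Opens) :
    CommRingCat.of k ⟶ Γ(Z, W) :=
  (Scheme.ΓSpecIso (CommRingCat.of k)).inv ≫ r.appLE ⊤ W le_top

include hf in
theorem exists_local (hY : Pi1.IsNormalScheme Y) (hpq : f ≫ q = p) (s : Γ(X, ⊤))
    (hs : ∀ x₁ x₂ : Spec (CommRingCat.of k) ⟶ X, x₁ ≫ p = 𝟙 _ → x₂ ≫ p = 𝟙 _ → x₁ ≫ f = x₂ ≫ f →
        x₁.appTop.hom s = x₂.appTop.hom s) {V : Y.Opens} (hV : IsAffineOpen V) [Nonempty V] :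
    ∃ r : Γ(Y, V), f.app V r = X.presheaf.map (homOfLE le_top : f ⁻¹ᵁ V ⟶ ⊤).op s := by
  obtain ⟨y, hy⟩ := (inferInstance : Nonempty V)
  obtain ⟨x, rfl⟩ := hf y
  obtain ⟨U, hU, hxU, hUV⟩ := exists_isAffineOpen_mem_and_subset (U := f ⁻¹ᵁ V) (x := x) hy
  replace hUV : U ≤ f ⁻¹ᵁ V := hUV
  have hUne : Nonempty U := ⟨⟨x, hxU⟩⟩
  let A := Γ(Y, V)
  let B := Γ(X, U)
  let : Algebra k A := (toSec k q V).hom.toAlgebra
  let : Algebra k B := (toSec k p U).hom.toAlgebra
  let : Algebra A B := (f.appLE V U hUV).hom.toAlgebra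
  have htower : toSec k q V ≫ f.appLE V U hUV = toSec k p U := by
    subst hpq
    simp only [toSec, Category.assoc]
    rw [Scheme.Hom.appLE_comp_appLE]
  have : IsScalarTower k A B := IsScalarTower.of_algebraMap_eq fun c => by
    exact (congr($(htower) c)).symm
  have hft : Algebra.FiniteType k B := by
    have h1 : (p.appLE ⊤ U le_top).hom.FiniteType :=
      p.finiteType_appLE (isAffineOpen_top _) hU le_top
    have h2 : (toSec k p U).hom.FiniteType := by
      rw [toSec, CommRingCat.hom_comp]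
      exact h1.comp (RingHom.FiniteType.of_surjective _ (Scheme.ΓSpecIso (CommRingCat.of k)).commRingCatIsoToRingEquiv.symm.surjective)
    exact h2
  have hinjU : Function.Injective (X.presheaf.map (homOfLE hUV).op).hom := map_injective_of_isIntegral X (homOfLE hUV)
  have hinj : Function.Injective (algebraMap A B) := by
    change Function.Injective (f.appLE V U hUV).hom
    rw [Scheme.Hom.appLE]
    exact hinjU.comp (app_injective f hf V)
  obtain ⟨a, b, hb, hab⟩ := FibConst.exists_mul_eq k A B hinj (X.presheaf.map (homOfLE le_top : U ⟶ ⊤).op s) (by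
    intro φ₁ φ₂ h
    have hpt : ∀ φ : B →ₐ[k] k, (Spec.map (CommRingCat.ofHom φ.toRingHom) ≫ hU.fromSpec) ≫ p = 𝟙 _ := by
      intro φ
      have h1 : toSec k p U ≫ CommRingCat.ofHom φ.toRingHom = 𝟙 _ := by
        ext c
        exact φ.commutes c
      have h2 : p.appLE ⊤ U le_top ≫ CommRingCat.ofHom φ.toRingHom = (Scheme.ΓSpecIso (CommRingCat.of k)).hom := by
        rw [← cancel_epi (Scheme.ΓSpecIso (CommRingCat.of k)).inv, Iso.inv_hom_id, ← h1, toSec, Category.assoc]
      rw [Category.assoc, ← IsAffineOpen.SpecMap_appLE_fromSpec p (isAffineOpen_top _) hU le_top,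
        ← Category.assoc, ← Spec.map_comp, h2, IsAffineOpen.fromSpec_top, Scheme.isoSpec_Spec_inv, ← Spec.map_comp,
        Iso.inv_hom_id, Spec.map_id]
    have heq : (Spec.map (CommRingCat.ofHom φ₁.toRingHom) ≫ hU.fromSpec) ≫ f =
        (Spec.map (CommRingCat.ofHom φ₂.toRingHom) ≫ hU.fromSpec) ≫ f := by
      have h1 : f.appLE V U hUV ≫ CommRingCat.ofHom φ₁.toRingHom = f.appLE V U hUV ≫ CommRingCat.ofHom φ₂.toRingHom := by
        ext c
        exact h c
      rw [Category.assoc, Category.assoc, ← IsAffineOpen.SpecMap_appLE_fromSpec f hV hU hUV,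
        ← Category.assoc, ← Spec.map_comp, h1, Spec.map_comp, Category.assoc]
    have hval : ∀ φ : B →ₐ[k] k, (Spec.map (CommRingCat.ofHom φ.toRingHom) ≫ hU.fromSpec).appTop.hom s =
        (Scheme.ΓSpecIso (CommRingCat.of k)).inv (φ (X.presheaf.map (homOfLE le_top : U ⟶ ⊤).op s)) := by
      intro φ
      have h1 : (Spec.map (CommRingCat.ofHom φ.toRingHom) ≫ hU.fromSpec).appTop =
          X.presheaf.map (homOfLE le_top : U ⟶ ⊤).op ≫ CommRingCat.ofHom φ.toRingHom ≫
            (Scheme.ΓSpecIso (CommRingCat.of k)).inv := by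
        rw [Scheme.ΓSpecIso_inv_naturality, Scheme.Hom.comp_appTop]
        have h2 : hU.fromSpec.appTop = X.presheaf.map (homOfLE le_top : U ⟶ ⊤).op ≫ (Scheme.ΓSpecIso Γ(X, U)).inv := by
          have h3 := hU.fromSpec_app_of_le ⊤ le_top
          refine h3.trans ?_
          congr 1
        rw [h2, Category.assoc]
      exact congr($(h1) s)
    have h1 := hs _ _ (hpt φ₁) (hpt φ₂) heq
    rw [hval, hval] at h1
    exact (Scheme.ΓSpecIso (CommRingCat.of k)).commRingCatIsoToRingEquiv.symm.injective h1)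
  apply exists_of_frac f hf hY hV _ a b hb
  apply hinjU
  rw [map_mul]
  have h1 : ∀ c : A, (X.presheaf.map (homOfLE hUV).op).hom (f.app V c) = algebraMap A B c := fun c => by
    change _ = (f.appLE V U hUV).hom c
    rw [Scheme.Hom.appLE]
    rfl
  have h2 : (X.presheaf.map (homOfLE hUV).op).hom (X.presheaf.map (homOfLE le_top : f ⁻¹ᵁ V ⟶ ⊤).op s) =
      X.presheaf.map (homOfLE le_top : U ⟶ ⊤).op s := by
    have h3 : X.presheaf.map (homOfLE le_top : f ⁻¹ᵁ V ⟶ ⊤).op ≫ X.presheaf.map (homOfLE hUV).op =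
        X.presheaf.map (homOfLE le_top : U ⟶ ⊤).op := by
      rw [← X.presheaf.map_comp]; rfl
    exact congr($(h3) s)
  rw [h1, h1, h2]
  exact hab

include hf in
/-- A global function on `X` constant on the `k`-points of the fibres of a surjective `f : X ⟶ Y`, `Y` normal,
comes from `Y` (`k` algebraically closed of characteristic zero). -/
theorem exists_global (hY : Pi1.IsNormalScheme Y) (hpq : f ≫ q = p) (s : Γ(X, ⊤))
    (hs : ∀ x₁ x₂ : Spec (CommRingCat.of k) ⟶ X, x₁ ≫ p = 𝟙 _ → x₂ ≫ p = 𝟙 _ → x₁ ≫ f = x₂ ≫ f →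
        x₁.appTop.hom s = x₂.appTop.hom s) :
    ∃ r : Γ(Y, ⊤), f.appTop.hom r = s := by
  have key : ∀ V : Y.affineOpens, ∃ r : Γ(Y, V.1), f.app V.1 r = X.presheaf.map (homOfLE le_top : f ⁻¹ᵁ V.1 ⟶ ⊤).op s := by
    intro V
    by_cases hV : Nonempty V.1
    · exact exists_local f hf k p q hY hpq s hs V.2
    · have h0 : V.1 = ⊥ := by
        ext x
        simp only [Opens.coe_bot, Set.mem_empty_iff_false, iff_false]
        exact fun hx => hV ⟨⟨x, hx⟩⟩
      have h1 : Subsingleton Γ(X, f ⁻¹ᵁ V.1) := by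
        rw [h0]
        exact inferInstanceAs (Subsingleton Γ(X, ⊥))
      exact ⟨0, Subsingleton.elim _ _⟩
  choose r hr using key
  have hcomp : TopCat.Presheaf.IsCompatible Y.presheaf (fun V : Y.affineOpens => V.1) r := by
    intro V W
    apply app_injective f hf
    have h1 := congr($(f.naturality (Opens.infLELeft V.1 W.1).op) (r V))
    have h2 := congr($(f.naturality (Opens.infLERight V.1 W.1).op) (r W))
    simp only [CommRingCat.comp_apply] at h1 h2
    refine h1.trans (Eq.trans ?_ h2.symm)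
    rw [hr, hr]
    simp only [← CommRingCat.comp_apply, ← X.presheaf.map_comp]
    rfl
  obtain ⟨t, ht, -⟩ := Y.sheaf.existsUnique_gluing' (fun V : Y.affineOpens => V.1) ⊤ (fun _ => homOfLE le_top)
    (iSup_affineOpens_eq_top Y).ge r hcomp
  refine ⟨t, ?_⟩
  obtain ⟨y, hy⟩ : ∃ V : Y.affineOpens, Nonempty V.1 := by
    obtain ⟨U, hU, h1, -⟩ := exists_isAffineOpen_mem_and_subset (U := (⊤ : Y.Opens)) (x := genericPoint Y) trivial
    exact ⟨⟨U, hU⟩, ⟨⟨_, h1⟩⟩⟩
  have hne : Nonempty (f ⁻¹ᵁ y.1 : X.Opens) := by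
    obtain ⟨z, hz⟩ := hy
    obtain ⟨x, rfl⟩ := hf z
    exact ⟨⟨x, hz⟩⟩
  apply map_injective_of_isIntegral X (homOfLE (le_top : f ⁻¹ᵁ y.1 ≤ ⊤))
  refine Eq.trans ?_ (hr y)
  have h1 := congr($(f.naturality (homOfLE (le_top : y.1 ≤ ⊤)).op) t)
  simp only [CommRingCat.comp_apply] at h1
  refine h1.symm.trans ?_
  congr 1
  exact ht y

end Field

end K433.FibConstSch
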