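import Groth.Agent.Variety.K433.NumBdd
import Groth.Agent.Variety.K433.GenFinite

/-!
# Numerically trivial twists do not change the growth of cohomology

`X` integral and proper over an infinite field `k`, with an ample module, of dimension `≤ n`.
* `near_num_list`: `|h^q(ν ⊗ g^w) - h^q(g^w)| ≤ C phi n |w|` for all words `w` and all numerically trivial `ν`.

The proof compares both sides with `a₀ ν g^w`, where all `a₀ ν` have sections; the cokernels of `O ⟶ a₀ ν` move with
`ν`, and are handled by cutting them further by sections of finitely many classes times numerically trivial classes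
(`Fam`).
-/

set_option autoImplicit false
universe u v
open CategoryTheory CategoryTheory.Limits AlgebraicGeometry Opposite TopologicalSpace

namespace K433.Num

open Groth.Agent Groth.Agent.Ega2 Groth.Agent.Fdesc.LocGen Groth.Agent.Fga.RegSec
open Groth.Agent.Grpsch.PicGrp K433.Hq K433.Growth Groth.Agent.CohqB.SerTw
open Groth.Agent.Pic13.H945.DegAmple (num0)
open Groth.Agent.Pic13.H946.Core (cokSeq cokSeq_shortExact)

variable (k : Type u) [Field k] {X : Scheme.{u}} [X.Over (Spec (CommRingCat.of k))]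
  [IsProper (X ↘ Spec (CommRingCat.of k))]

/-- Modules obtained from `O_X` by `e` cuts by classes in `T`; `n` is the dimension. -/
def Fam (T : Set (Pic X)) (n : ℕ) : ℕ → X.Modules → Prop
  | 0, G => G = Coh.structureModule X
  | e + 1, G' => Coh.IsCoh G' ∧ DimLT (𝟙 X) (n - e) G' ∧ ∃ b ∈ T, ∃ G : X.Modules, Fam T n e G ∧
      ∀ (q : ℕ) (c : Pic X), hq k q G' c ≤ hq k q G (b * c) + hq k (q + 1) G c

/-- `T = {b ν}`, `b ∈ B`, `ν` numerically trivial. -/
def cls (B : Set (Pic X)) : Set (Pic X) := {c | ∃ b ∈ B, ∃ ν ∈ num0 k X, c = b * ν}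

omit [IsProper (X ↘ Spec (CommRingCat.of k))] in
theorem fam_coh [IsNoetherian X] {T : Set (Pic X)} {n e : ℕ} {G : X.Modules} (h : Fam k T n e G) : Coh.IsCoh G := by
  cases e with
  | zero => rw [show G = _ from h]; exact Fdesc.StructMod.isCoh_structureModule X
  | succ e => exact h.1

omit [IsProper (X ↘ Spec (CommRingCat.of k))] in
theorem fam_dim {T : Set (Pic X)} {n e : ℕ} (hn : topologicalKrullDim X ≤ n) {G : X.Modules} (h : Fam k T n e G) :
    DimLT (𝟙 X) (n + 1 - e) G := by
  cases e with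
  | zero => exact dimLT_of_dim_le hn G
  | succ e =>
    have := h.2.1
    rwa [Nat.add_sub_add_right]

/-- The uniform bound for the modules of the family. -/
theorem fam_bdd {H : X.Modules} (hH : CohB1.IsAmple H) (B : Finset (Pic X)) (n : ℕ) (e : ℕ) : ∀ (q : ℕ) (d : Pic X),
    ∃ C : ℕ, ∀ G, Fam k (cls k (B : Set (Pic X))) n e G → ∀ ν ∈ num0 k X, hq k q G (d * ν) ≤ C := by
  have := Fga.HypSec.isNoetherian k X
  have hO : Coh.IsCoh (Coh.structureModule X) := Fdesc.StructMod.isCoh_structureModule X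
  induction e with
  | zero =>
    intro q d
    obtain ⟨C, hC⟩ := bdd_num0 k hH (CohB1.tensorMod (Coh.structureModule X) (rep d))
      (Fga.TwistCoh.isCoh_tensor hO (rep_inv d)) q
    refine ⟨C, fun G hG ν hν => ?_⟩
    rw [show G = _ from hG]
    have := hC ν hν
    rwa [hq_tensor k _ _ (rep_inv d), mk_rep] at this
  | succ e ih =>
    intro q d
    choose C hC using ih
    refine ⟨(∑ b ∈ B, C q (b * d)) + C (q + 1) d, fun G' hG' ν hν => ?_⟩
    obtain ⟨-, -, t, ⟨b, hb, ν', hν', rfl⟩, G, hG, h⟩ := hG'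
    refine (h q (d * ν)).trans (Nat.add_le_add ?_ (hC (q + 1) d G hG ν hν))
    have e1 : b * ν' * (d * ν) = b * d * (ν' * ν) := mul_mul_mul_comm _ _ _ _
    rw [e1]
    refine (hC q (b * d) G hG (ν' * ν) (mul_mem hν' hν)).trans ?_
    exact Finset.single_le_sum (f := fun b => C q (b * d)) (fun _ _ => Nat.zero_le _) hb

/-- Cutting a coherent module by a section of a globally generated invertible module. -/
theorem exists_cut [Infinite k] {G : X.Modules} (hG : Coh.IsCoh G) {e : ℕ} (he : DimLT (𝟙 X) (e + 1) G)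
    {B : X.Modules} (hB : PicF.IsInvertible B) (hg : Curv2.IsGloballyGenerated B) :
    ∃ G' : X.Modules, Coh.IsCoh G' ∧ DimLT (𝟙 X) e G' ∧
      (∀ (q : ℕ) (c : Pic X), hq k q G' c ≤ hq k q G (mk B hB * c) + hq k (q + 1) G c) ∧
      ∀ (q : ℕ) (c : Pic X), Near (hq k q G (mk B hB * c)) (hq k q G c) (hq k (q - 1) G' c + hq k q G' c) := by
  have := Fga.HypSec.isNoetherian k X
  set T : Set X := CohB1.support G with hTdef
  have hT : IsClosed T := S0020.result X G hG.2
  have hTn : NoetherianSpace T := inferInstance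
  have hcomp : (irreducibleComponents T).Finite := NoetherianSpace.finite_irreducibleComponents
  have hfc : Finite (irreducibleComponents T) := hcomp
  have hch : ∀ Z : irreducibleComponents T, ∃ z : T, z ∈ Z.1 := fun Z => Z.2.1.nonempty
  choose z hz using hch
  obtain ⟨s, hs⟩ := K433.GenFinite.exists_gen_finite k hB hg (AssSch.Ass G ∪ Set.range fun Z => (z Z : X))
    ((Fdesc.SubFilt.finite_ass hG).union (Set.finite_range _))
  obtain ⟨hC, hCs, hn⟩ := mulS_near k hB s hG (fun x hx => hs (Or.inl hx))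
  refine ⟨cokernel (mulS s G), hC, ?_, fun q c => ?_, hn⟩
  · rw [dimLT_id_iff, hCs]
    refine dim_diff_lt (CohB1.genLocus B s : Set X) (CohB1.genLocus B s).isOpen ?_ (dimLT_id_iff.mp he)
    intro Z hZ
    exact ⟨z ⟨Z, hZ⟩, hz ⟨Z, hZ⟩, hs (Or.inr ⟨⟨Z, hZ⟩, rfl⟩)⟩
  · have hBG : Coh.IsCoh (CohB1.tensorMod B G) :=
      Sga67.CohBasic.isCoh_of_iso (Ega2.Tens.swap G _) (Fga.TwistCoh.isCoh_tensor hG hB)
    have hmono : Mono (mulS s G) := mulS_mono s G hG (Sga67.CohBasic.isCoh_kernel _ hG hBG.1).1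
      (fun x hx => hs (Or.inl hx))
    have h := hq_right_le k (cokSeq_shortExact (mulS s G)) hG hBG hC q c
    have e1 : hq k q (cokSeq (mulS s G)).X₂ c = hq k q G (mk B hB * c) := hq_tensor' k q G hB c
    rw [e1] at h
    exact h

include k in
/-- Globally generated classes: `b` and `g b`. -/
theorem exists_gg_class {H : X.Modules} (hH : CohB1.IsAmple H) (g : Pic X) :
    ∃ (B B' : X.Modules) (hB : PicF.IsInvertible B) (hB' : PicF.IsInvertible B'),
      Curv2.IsGloballyGenerated B ∧ Curv2.IsGloballyGenerated B' ∧ mk B' hB' = g * mk B hB := by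
  have := Fga.HypSec.isNoetherian k X
  have := Fga.HypSec.isSeparated k X
  have hO : Coh.IsCoh (Coh.structureModule X) := Fdesc.StructMod.isCoh_structureModule X
  obtain ⟨n₁, h₁⟩ := S2325.result X H hH (Coh.structureModule X) hO
  obtain ⟨n₂, h₂⟩ := S2325.result X H hH (rep g) (Fga.HodgeSec.isCoh_of_isInvertible (rep_inv g))
  have hHn := isInvertible_tensorPow hH.1 (max n₁ n₂)
  refine ⟨CohB1.tensorPow H (max n₁ n₂), CohB1.tensorMod (rep g) (CohB1.tensorPow H (max n₁ n₂)), hHn,
    isInvertible_tensorMod (rep_inv g) hHn, ?_, h₂ _ (le_max_right _ _), ?_⟩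
  · exact Ega2.GlobGenCrit.isGloballyGenerated_of_iso (Ega2.Tens.lunit _) (h₁ _ (le_max_left _ _))
  · rw [← mk_mul_mk (rep_inv g) hHn, mk_rep]

section main

variable [IsIntegral X] [Infinite k] {H : X.Modules} (hH : CohB1.IsAmple H) {n : ℕ} (hn : topologicalKrullDim X ≤ n)
  {ι : Type v} [Finite ι] (g : ι → Pic X)

include hH hn

omit [IsIntegral X] in
/-- The growth of the cohomology of the modules of the family. -/
theorem exists_classes (B₀ : Finset (Pic X)) : ∃ B : Finset (Pic X), B₀ ⊆ B ∧ ∀ m e : ℕ, e + m = n + 1 →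
    ∀ (q : ℕ) (d : Pic X), ∃ C : ℕ, ∀ G, Fam k (cls k (B : Set (Pic X))) n e G → ∀ ν ∈ num0 k X, ∀ w : List ι,
      hq k q G (d * (w.map g).prod * ν) ≤ C * phi m w.length := by
  classical
  have := Fga.HypSec.isNoetherian k X
  have := Fintype.ofFinite ι
  choose b b' hb hb' hbg hbg' hbb using fun i => exists_gg_class k hH (g i)
  let B : Finset (Pic X) := B₀ ∪ (Finset.univ.image fun i => mk (b i) (hb i)) ∪
    (Finset.univ.image fun i => mk (b' i) (hb' i))
  have hB0 : B₀ ⊆ B := fun x hx => Finset.mem_union_left _ (Finset.mem_union_left _ hx)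
  have hBb : ∀ i, mk (b i) (hb i) ∈ B := fun i =>
    Finset.mem_union_left _ (Finset.mem_union_right _ (Finset.mem_image_of_mem _ (Finset.mem_univ i)))
  have hBb' : ∀ i, mk (b' i) (hb' i) ∈ B := fun i =>
    Finset.mem_union_right _ (Finset.mem_image_of_mem _ (Finset.mem_univ i))
  have hcls : ∀ x ∈ B, x ∈ cls k (B : Set (Pic X)) := fun x hx => ⟨x, hx, 1, one_mem _, (mul_one x).symm⟩
  refine ⟨B, hB0, fun m => ?_⟩
  induction m with
  | zero =>
    intro e he q d
    refine ⟨0, fun G hG ν _ w => ?_⟩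
    have h1 := fam_dim k hn hG
    rw [show n + 1 - e = 0 by omega] at h1
    rw [hq_eq_zero k q (dimLT_zero_iff.mp h1)]
    exact Nat.zero_le _
  | succ m ih =>
    intro e he q d
    have ih' := ih (e + 1) (by omega)
    choose C hC using ih'
    obtain ⟨C₀, hC₀⟩ := fam_bdd k hH B n e q d
    let D : ℕ := ∑ i, ((C (q - 1) ((mk (b i) (hb i))⁻¹ * d) + C q ((mk (b i) (hb i))⁻¹ * d)) +
      (C (q - 1) ((mk (b i) (hb i))⁻¹ * d) + C q ((mk (b i) (hb i))⁻¹ * d)))
    have hD : ∀ i, ((C (q - 1) ((mk (b i) (hb i))⁻¹ * d) + C q ((mk (b i) (hb i))⁻¹ * d)) +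
      (C (q - 1) ((mk (b i) (hb i))⁻¹ * d) + C q ((mk (b i) (hb i))⁻¹ * d))) ≤ D := fun i =>
      Finset.single_le_sum (f := fun i => ((C (q - 1) ((mk (b i) (hb i))⁻¹ * d) + C q ((mk (b i) (hb i))⁻¹ * d)) +
        (C (q - 1) ((mk (b i) (hb i))⁻¹ * d) + C q ((mk (b i) (hb i))⁻¹ * d)))) (fun _ _ => Nat.zero_le _)
        (Finset.mem_univ i)
    have key : ∀ G, Fam k (cls k (B : Set (Pic X))) n e G → ∀ ν ∈ num0 k X, ∀ w : List ι,
        hq k q G (d * (w.map g).prod * ν) ≤ C₀ + w.length * (D * phi m w.length) := by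
      intro G hG ν hν w
      have hGc := fam_coh k hG
      have hGd := fam_dim k hn hG
      rw [show n + 1 - e = m + 1 by omega] at hGd
      induction w with
      | nil => simpa using hC₀ G hG ν hν
      | cons i w ih'' =>
        obtain ⟨G₁, hG₁, hd₁, hi₁, hn₁⟩ := exists_cut k hGc hGd (hb i) (hbg i)
        obtain ⟨G₂, hG₂, hd₂, hi₂, hn₂⟩ := exists_cut k hGc hGd (hb' i) (hbg' i)
        have hF₁ : Fam k (cls k (B : Set (Pic X))) n (e + 1) G₁ :=
          ⟨hG₁, by rwa [show n - e = m by omega], _, hcls _ (hBb i), G, hG, hi₁⟩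
        have hF₂ : Fam k (cls k (B : Set (Pic X))) n (e + 1) G₂ :=
          ⟨hG₂, by rwa [show n - e = m by omega], _, hcls _ (hBb' i), G, hG, hi₂⟩
        rw [List.map_cons, List.prod_cons, List.length_cons]
        set β := mk (b i) (hb i) with hβ
        set P := (w.map g).prod with hP
        have e1 : β * (β⁻¹ * d * P * ν) = d * P * ν := by group
        have e2 : mk (b' i) (hb' i) * (β⁻¹ * d * P * ν) = d * (g i * P) * ν := by
          rw [hbb i, ← hβ, mul_assoc (g i) β, ← mul_assoc β, ← mul_assoc β, ← mul_assoc β, mul_inv_cancel, one_mul,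
            ← mul_assoc, ← mul_assoc, ← mul_assoc, mul_comm (g i) d]
        have h1 := hn₁ q (β⁻¹ * d * P * ν)
        have h2 := hn₂ q (β⁻¹ * d * P * ν)
        rw [e1] at h1
        rw [e2] at h2
        have h3 := (h2.trans h1.symm).1
        refine h3.trans ?_
        have h4 : (hq k (q - 1) G₂ (β⁻¹ * d * P * ν) + hq k q G₂ (β⁻¹ * d * P * ν)) +
            (hq k (q - 1) G₁ (β⁻¹ * d * P * ν) + hq k q G₁ (β⁻¹ * d * P * ν)) ≤ D * phi m w.length := by
          refine le_trans (Nat.add_le_add (Nat.add_le_add (hC (q - 1) (β⁻¹ * d) G₂ hF₂ ν hν w)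
            (hC q (β⁻¹ * d) G₂ hF₂ ν hν w)) (Nat.add_le_add (hC (q - 1) (β⁻¹ * d) G₁ hF₁ ν hν w)
            (hC q (β⁻¹ * d) G₁ hF₁ ν hν w))) ?_
          rw [← add_mul, ← add_mul]
          exact Nat.mul_le_mul_right _ (hD i)
        have h5 : D * phi m w.length ≤ D * phi m (w.length + 1) :=
          Nat.mul_le_mul_left _ (phi_mono_right m (Nat.le_succ _))
        calc _ ≤ (C₀ + w.length * (D * phi m w.length)) + D * phi m w.length := Nat.add_le_add ih'' h4
          _ ≤ (C₀ + w.length * (D * phi m (w.length + 1))) + D * phi m (w.length + 1) :=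
            Nat.add_le_add (Nat.add_le_add_left (Nat.mul_le_mul_left _ h5) _) h5
          _ = _ := by ring
    refine ⟨C₀ + D, fun G hG ν hν w => (key G hG ν hν w).trans ?_⟩
    rw [add_mul]
    refine Nat.add_le_add (Nat.le_mul_of_pos_right _ (one_le_phi_succ _ _)) ?_
    calc w.length * (D * phi m w.length) = D * (w.length * phi m w.length) := by ring
      _ ≤ _ := Nat.mul_le_mul_left _ (mul_phi_le m _)

/-- **Numerically trivial twists do not change the growth of cohomology.** -/
theorem near_num_list (q : ℕ) : ∃ C : ℕ, ∀ ν ∈ num0 k X, ∀ w : List ι,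
    Near (hq k q (Coh.structureModule X) ((w.map g).prod * ν)) (hq k q (Coh.structureModule X) (w.map g).prod)
      (C * phi n w.length) := by
  have := Fga.HypSec.isNoetherian k X
  have := Fga.HypSec.isSeparated k X
  have hO : Coh.IsCoh (Coh.structureModule X) := Fdesc.StructMod.isCoh_structureModule X
  obtain ⟨a₀, ha₀⟩ := exists_class k hH
  obtain ⟨B, hB₀, hB⟩ := exists_classes k hH hn g {a₀}
  have hB1 := hB n 1 (by omega)
  choose C hC using hB1
  obtain ⟨C', hC'⟩ := near_list k hH (isClosedMap_id' X) (bdd_num0 k hH) g hO (dimLT_of_dim_le hn _) a₀ q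
  refine ⟨C' + (C (q - 1) 1 + C q 1), fun ν hν w => ?_⟩
  -- the moving section
  have h0 : 0 < hh k (rep (a₀ * ν)) 0 := by
    have := ha₀ ν hν
    rwa [← mk_rep (a₀ * ν), hq_unit] at this
  obtain ⟨s, hs⟩ := exists_section_ne_zero k h0
  have hN := rep_inv (a₀ * ν)
  have hη : genericPoint X ∈ CohB1.genLocus (rep (a₀ * ν)) s :=
    (genericPoint_spec X).mem_open_set_iff (CohB1.genLocus (rep (a₀ * ν)) s).isOpen |>.mpr
      (by simpa using VarietyA.TwistExist.genLocus_nonempty hN s hs)
  have hmono : Mono s := CurvesB.RankOne.mono_of_ne_zero (CurvesB.InvEmb.locEmb_of_isInvertible hN) s hs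
  have hiso := Pic13.H946.Core.isIso_stalk_sec s hη
  have hNc : Coh.IsCoh (rep (a₀ * ν)) := Fga.HodgeSec.isCoh_of_isInvertible hN
  have hGc : Coh.IsCoh (cokernel s) := isCoh_cokernel s hO.1 hNc
  have hGd : DimLT (𝟙 X) n (cokernel s) := dimLT_of_generic hn hGc (not_mem_support_cokernel s inferInstance)
  have hN2 : ∀ (q : ℕ) (c : Pic X), hq k q (cokSeq s).X₂ c = hq k q (Coh.structureModule X) (a₀ * ν * c) := by
    intro q c
    change hq k q (rep (a₀ * ν)) c = _
    refine hh_congr k ?_ q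
    rw [Fga.PicMon.mc_tensor, Fga.PicMon.mc_tensor, mc_rep_mul (a₀ * ν) c, Fga.PicMon.mc_one, one_mul]
  have hF : Fam k (cls k (B : Set (Pic X))) n 1 (cokernel s) := by
    refine ⟨hGc, by rwa [Nat.sub_zero], a₀ * ν, ⟨a₀, hB₀ (Finset.mem_singleton_self _), ν, hν, rfl⟩,
      Coh.structureModule X, rfl, fun q c => ?_⟩
    have h := hq_right_le k (cokSeq_shortExact s) hO hNc hGc q c
    rw [hN2] at h
    exact h
  have h1 := near_left k (cokSeq_shortExact s) hO hNc hGc q (w.map g).prod
  rw [hN2] at h1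
  have h2 := hC' ν hν w
  rw [pull_id, pull_id] at h2
  have e1 : a₀ * ν * (w.map g).prod = a₀ * (w.map g).prod * ν := mul_right_comm _ _ _
  rw [e1] at h1
  have h3 := h2.symm.trans (Near.symm h1)
  refine h3.mono ?_
  rw [add_mul, add_mul]
  refine Nat.add_le_add_left (Nat.add_le_add ?_ ?_) _
  · have := hC (q - 1) 1 (cokernel s) hF 1 (one_mem _) w
    rwa [one_mul, mul_one] at this
  · have := hC q 1 (cokernel s) hF 1 (one_mem _) w
    rwa [one_mul, mul_one] at this

end main

end K433.Num
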