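import Groth.Agent.Variety.K433.NumVol
import Groth.Agent.S7649
import Groth.Agent.S1528
import Mathlib.Order.Filter.ENNReal

/-!
# Volumes: homogeneity and bigness (helper433)

* `lower_pow`: `c m^d ≤ h⁰(b^m)` for `b` the class of an ample module with sections.
* `limsup_mul`: `vol(L^a) = a^d vol(L)`.
* `liminf_pos`: `vol(L) > 0` implies that the lower limit is positive.
-/

set_option autoImplicit false
universe u v
open CategoryTheory CategoryTheory.Limits AlgebraicGeometry Opposite TopologicalSpace Filter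
open scoped ENNReal

namespace K433.VolBig

open Groth.Agent Groth.Agent.Ega2 Groth.Agent.Fdesc.LocGen Groth.Agent.Fga.PicMon Groth.Agent.Fga.RegSec
open Groth.Agent.Grpsch.PicGrp K433.Hq K433.Growth K433.Num

section Limsup

variable {h : ℕ → ℕ} {C n : ℕ}

theorem phi_tendsto' (d C : ℕ) : Tendsto (fun m : ℕ => ((C * phi d m : ℕ) : ℝ≥0∞) / (m : ℝ≥0∞) ^ d) atTop (nhds 0) := by
  have h := ENNReal.tendsto_ofReal (tendsto_phi_div d (C : ℝ))
  rw [ENNReal.ofReal_zero] at h
  refine h.congr' ?_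
  filter_upwards [eventually_gt_atTop 0] with m hm
  have hm' : (0 : ℝ) < (m : ℝ) ^ d := by
    have : (0 : ℝ) < m := by exact_mod_cast hm
    positivity
  rw [ENNReal.ofReal_div_of_pos hm', ENNReal.ofReal_pow (Nat.cast_nonneg m), ENNReal.ofReal_natCast]
  congr 1
  rw [← Nat.cast_mul, ENNReal.ofReal_natCast]

/-- The upper limit along the multiples of `a`, in the extended nonnegative reals. -/
theorem limsup_multiples_ennreal {h : ℕ → ℕ} {C n : ℕ} (hs : ∀ m, Near (h (m + 1)) (h m) (C * phi n m)) {a : ℕ}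
    (ha : 0 < a) : limsup (fun m : ℕ => (h (a * m) : ℝ≥0∞) / (m : ℝ≥0∞) ^ n) atTop =
      (a : ℝ≥0∞) ^ n * limsup (fun m : ℕ => (h m : ℝ≥0∞) / (m : ℝ≥0∞) ^ n) atTop := by
  have ha0 : ((a : ℝ≥0∞) ^ n) ≠ 0 := pow_ne_zero _ (by exact_mod_cast ha.ne')
  have ha1 : ((a : ℝ≥0∞) ^ n) ≠ ⊤ := ENNReal.pow_ne_top (ENNReal.natCast_ne_top a)
  set u : ℕ → ℝ≥0∞ := fun m => (h m : ℝ≥0∞) / (m : ℝ≥0∞) ^ n with hu
  have h1 : (fun m : ℕ => (h (a * m) : ℝ≥0∞) / (m : ℝ≥0∞) ^ n) = fun m => (a : ℝ≥0∞) ^ n * u (a * m) := by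
    funext m
    rw [hu]
    dsimp only
    rw [Nat.cast_mul, mul_pow, ← mul_div_assoc, ENNReal.mul_div_mul_left _ _ ha0 ha1]
  rw [h1, ENNReal.limsup_const_mul_of_ne_top ha1]
  congr 1
  have ht : Tendsto (fun m => a * m) atTop (atTop : Filter ℕ) := tendsto_id.const_mul_atTop' ha
  have ht' : Tendsto (fun m => m / a) atTop (atTop : Filter ℕ) := Nat.tendsto_div_const_atTop ha.ne'
  apply le_antisymm
  · exact limsup_le_limsup_of_le (f := map (fun m => a * m) atTop) (g := atTop) ht (u := u)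
  · have h2 : ∀ᶠ m in atTop, u m ≤ u (a * (m / a)) + ((a * C * phi n m : ℕ) : ℝ≥0∞) / (m : ℝ≥0∞) ^ n := by
      filter_upwards [eventually_ge_atTop a] with m hma
      have hdm := Nat.div_add_mod m a
      have hmod := Nat.mod_lt m ha
      set m' := a * (m / a) with hm'
      have hm'pos : 1 ≤ m' := le_trans ha (by
        rw [hm']; exact Nat.le_mul_of_pos_right _ (Nat.div_pos hma ha))
      have hstep := (le_add_steps hs m' (m % a)).1
      rw [hdm] at hstep
      have h2 : h m ≤ h m' + a * C * phi n m := by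
        rw [mul_assoc]
        exact hstep.trans (Nat.add_le_add_left (Nat.mul_le_mul_right _ hmod.le) _)
      have hle : m' ≤ m := by omega
      calc u m ≤ ((h m' + a * C * phi n m : ℕ) : ℝ≥0∞) / (m : ℝ≥0∞) ^ n :=
            ENNReal.div_le_div_right (by exact_mod_cast h2) _
        _ = (h m' : ℝ≥0∞) / (m : ℝ≥0∞) ^ n + ((a * C * phi n m : ℕ) : ℝ≥0∞) / (m : ℝ≥0∞) ^ n := by
            rw [Nat.cast_add, ENNReal.add_div]
        _ ≤ u m' + _ := by
            gcongr
            exact ENNReal.div_le_div_left (pow_le_pow_left' (by exact_mod_cast hle) n) _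
    refine (limsup_le_limsup h2).trans ?_
    refine (ENNReal.limsup_add_of_right_tendsto_zero (phi_tendsto' n (a * C)) _).le.trans ?_
    exact limsup_le_limsup_of_le (f := map (fun m => m / a) atTop) (g := atTop) ht' (u := fun m => u (a * m))

end Limsup

variable (k : Type u) [Field k] {X : Scheme.{u}} [X.Over (Spec (CommRingCat.of k))]
  [IsProper (X ↘ Spec (CommRingCat.of k))] [IsIntegral X]

/-- Growth of the sections of the powers of an ample module. -/
theorem lower_pow {B : X.Modules} (hB : CohB1.IsAmple B) {d : ℕ} (hd : topologicalKrullDim X = d)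
    (h0 : 0 < hq k 0 (Coh.structureModule X) (mk B hB.1)) :
    ∃ (c : ℚ) (n₀ : ℕ), 0 < c ∧ ∀ n : ℕ, n₀ ≤ n → c * (n : ℚ) ^ d ≤ hq k 0 (Coh.structureModule X) (mk B hB.1 ^ n) := by
  have := Fga.HypSec.isNoetherian k X
  have hO : Coh.IsCoh (Coh.structureModule X) := Fdesc.StructMod.isCoh_structureModule X
  have hdim : topologicalKrullDim (CohB1.support (Coh.structureModule X)) ≤ d :=
    (Topology.IsInducing.subtypeVal.topologicalKrullDim_le).trans hd.le
  rcases Nat.eq_zero_or_pos d with rfl | hd0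
  · refine ⟨1, 1, one_pos, fun n hn => ?_⟩
    have := h0_pow_pos k h0 (j := n) (by omega)
    rw [pow_zero, mul_one]
    exact_mod_cast this
  obtain ⟨P, -, hP⟩ := S1528.result k X (Coh.structureModule X) hO d hdim d (fun _ => B) fun _ => hB.1
  obtain ⟨hpos, C, hC⟩ := S7649.result k X d hd B hB P hP
  set c : ℚ := MvPolynomial.coeff (Finsupp.equivFunOnFinite.symm fun _ : Fin d => 1) P / (d.factorial : ℚ) with hc
  have hc0 : 0 < c := div_pos hpos (by exact_mod_cast d.factorial_pos)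
  have hC0 : 0 ≤ C := by
    have := (abs_nonneg _).trans (hC 0)
    simpa using this
  obtain ⟨n₀, hn₀⟩ := exists_nat_ge (2 * C * 2 ^ (d - 1) / c)
  refine ⟨c / 2, max n₀ 1, by positivity, fun n hn => ?_⟩
  have h1 := (abs_le.1 (hC n)).1
  rw [← hh_tensorPow k 0 hB.1 n, hh_def]
  have hn1 : (1 : ℚ) ≤ n := by exact_mod_cast (le_max_right _ _).trans hn
  have hn2 : 2 * C * 2 ^ (d - 1) / c ≤ n := hn₀.trans (by exact_mod_cast (le_max_left _ _).trans hn)
  have h2 : C * ((n : ℚ) + 1) ^ (d - 1) ≤ c / 2 * (n : ℚ) ^ d := by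
    obtain ⟨e, rfl⟩ : ∃ e, d = e + 1 := ⟨d - 1, by omega⟩
    rw [Nat.add_sub_cancel] at hn2 ⊢
    have h3 : ((n : ℚ) + 1) ^ e ≤ (2 * n) ^ e := pow_le_pow_left₀ (by positivity) (by linarith) e
    have h4 : 2 * C * 2 ^ e ≤ n * c := by rwa [div_le_iff₀ hc0] at hn2
    calc C * ((n : ℚ) + 1) ^ e ≤ C * (2 * n) ^ e := mul_le_mul_of_nonneg_left h3 hC0
      _ = (2 * C * 2 ^ e) / 2 * n ^ e := by rw [mul_pow]; ring
      _ ≤ (n * c) / 2 * n ^ e := by gcongr
      _ = c / 2 * n ^ (e + 1) := by ring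
  linarith

variable {H : X.Modules} (hH : CohB1.IsAmple H) {d : ℕ}

include hH

theorem exists_ample_pos : ∃ (B : X.Modules) (hB : CohB1.IsAmple B), 0 < hq k 0 (Coh.structureModule X) (mk B hB.1) := by
  obtain ⟨m, hm⟩ := exists_h0_eq k hH
  refine ⟨CohB1.tensorPow H (m + 1), Divis.NormAmple.isAmple_tensorPow hH (Nat.succ_pos m), ?_⟩
  rw [hq_unit]
  exact (hm (m + 1) (Nat.le_succ m)).2

/-- Twisting by powers of an ample class with sections creates sections. -/
theorem exists_pos_twist {B : X.Modules} (hB : CohB1.IsAmple B) (hd : topologicalKrullDim X = d)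
    (h0 : 0 < hq k 0 (Coh.structureModule X) (mk B hB.1)) (g : Pic X) :
    ∃ n : ℕ, 0 < hq k 0 (Coh.structureModule X) (g * mk B hB.1 ^ n) := by
  have := Fga.HypSec.isNoetherian k X
  have hO : Coh.IsCoh (Coh.structureModule X) := Fdesc.StructMod.isCoh_structureModule X
  have hdim : topologicalKrullDim (CohB1.support (Coh.structureModule X)) ≤ d :=
    (Topology.IsInducing.subtypeVal.topologicalKrullDim_le).trans hd.le
  obtain ⟨c, n₀, hc, hn₀⟩ := lower_pow k hB hd h0
  obtain ⟨C, hC⟩ := step_pow k hH (mk B hB.1) hO hdim g 0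
  by_contra hcon
  push Not at hcon
  rcases Nat.eq_zero_or_pos d with rfl | hd0
  · have h1 := (hC 1).2
    rw [phi_zero, mul_zero, pow_one] at h1
    have h2 := hcon 1
    rw [pow_one] at h2
    omega
  obtain ⟨n₁, hn₁⟩ := exists_nat_gt (C * 2 ^ (d - 1) / c)
  set n := max (max n₀ n₁) 1 with hn
  have h1 : (1 : ℚ) ≤ n := by exact_mod_cast le_max_right _ _
  have h2 : C * 2 ^ (d - 1) / c < n := hn₁.trans_le (by
    exact_mod_cast (le_max_right n₀ n₁).trans (le_max_left _ _))
  have h3 := hn₀ n ((le_max_left n₀ n₁).trans (le_max_left _ _))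
  have h4 : hq k 0 (Coh.structureModule X) (mk B hB.1 ^ n) ≤ C * phi d n := by
    have := (hC n).2
    have h5 := hcon n
    omega
  obtain ⟨e, rfl⟩ : ∃ e, d = e + 1 := ⟨d - 1, by omega⟩
  rw [phi_succ] at h4
  rw [Nat.add_sub_cancel] at h2
  have h5 : (hq k 0 (Coh.structureModule X) (mk B hB.1 ^ n) : ℚ) ≤ C * ((n : ℚ) + 1) ^ e := by exact_mod_cast h4
  have h6 : ((n : ℚ) + 1) ^ e ≤ (2 * n) ^ e := pow_le_pow_left₀ (by positivity) (by linarith) e
  have h7 : C * 2 ^ e < n * c := by rwa [div_lt_iff₀ hc] at h2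
  have h8 : c * (n : ℚ) ^ (e + 1) < c * (n : ℚ) ^ (e + 1) := by
    calc c * (n : ℚ) ^ (e + 1) ≤ C * ((n : ℚ) + 1) ^ e := h3.trans h5
      _ ≤ C * (2 * n) ^ e := by gcongr
      _ = (C * 2 ^ e) * n ^ e := by rw [mul_pow]; ring
      _ < (n * c) * n ^ e := by gcongr
      _ = c * (n : ℚ) ^ (e + 1) := by ring
  exact lt_irrefl _ h8

variable (hd : topologicalKrullDim X = d)

include hd

omit [IsIntegral X] in
/-- Homogeneity of the volume. -/
theorem limsup_pow {L : X.Modules} (hL : PicF.IsInvertible L) {a : ℕ} (ha : 0 < a) :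
    limsup (fun m : ℕ => (Module.finrank k (Coh.HH X (CohB1.tensorPow (CohB1.tensorPow L a) m) 0) : ℝ≥0∞) /
        (m : ℝ≥0∞) ^ d) atTop =
      (a : ℝ≥0∞) ^ d * limsup (fun m : ℕ => (Module.finrank k (Coh.HH X (CohB1.tensorPow L m) 0) : ℝ≥0∞) /
        (m : ℝ≥0∞) ^ d) atTop := by
  have hO : Coh.IsCoh (Coh.structureModule X) := by
    have := Fga.HypSec.isNoetherian k X
    exact Fdesc.StructMod.isCoh_structureModule X
  have hdim : topologicalKrullDim (CohB1.support (Coh.structureModule X)) ≤ d :=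
    (Topology.IsInducing.subtypeVal.topologicalKrullDim_le).trans hd.le
  have hLa := isInvertible_tensorPow hL a
  rw [vol_eq k hLa, vol_eq k hL, mk_tensorPow hL]
  obtain ⟨C, hC⟩ := step_pow k hH (mk L hL) hO hdim (mk L hL) 0
  have key := limsup_multiples_ennreal (h := fun m => hq k 0 (Coh.structureModule X) (mk L hL ^ m)) (C := C) (n := d)
    (fun m => by
      have := hC m
      rwa [← pow_succ'] at this) ha
  rw [← key]
  simp only [pow_mul]

/-- Positive volume implies big. -/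
theorem liminf_pos {L : X.Modules} (hL : PicF.IsInvertible L)
    (hpos : 0 < limsup (fun m : ℕ => (Module.finrank k (Coh.HH X (CohB1.tensorPow L m) 0) : ℝ≥0∞) /
        (m : ℝ≥0∞) ^ d) atTop) :
    0 < liminf (fun m : ℕ => (Module.finrank k (Coh.HH X (CohB1.tensorPow L m) 0) : ℝ≥0∞) /
        (m : ℝ≥0∞) ^ d) atTop := by
  have hO : Coh.IsCoh (Coh.structureModule X) := by
    have := Fga.HypSec.isNoetherian k X
    exact Fdesc.StructMod.isCoh_structureModule X
  have hdim : topologicalKrullDim (CohB1.support (Coh.structureModule X)) ≤ d :=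
    (Topology.IsInducing.subtypeVal.topologicalKrullDim_le).trans hd.le
  rw [vol_eq k hL] at hpos ⊢
  obtain ⟨B, hB, hB0⟩ := exists_ample_pos k hH
  set b := mk B hB.1 with hb
  set g := mk L hL with hg
  obtain ⟨C, hC⟩ := step_pow k hH g hO hdim b⁻¹ 0
  obtain ⟨a, ha, hapos⟩ : ∃ a : ℕ, 0 < a ∧ 0 < hq k 0 (Coh.structureModule X) (b⁻¹ * g ^ a) := by
    by_contra hcon
    push Not at hcon
    have h1 : ∀ m : ℕ, 0 < m → hq k 0 (Coh.structureModule X) (g ^ m) ≤ C * phi d m := by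
      intro m hm
      have h2 := hcon m hm
      have h3 := (hC m).2
      omega
    have h2 : limsup (fun m : ℕ => (hq k 0 (Coh.structureModule X) (g ^ m) : ℝ≥0∞) / (m : ℝ≥0∞) ^ d) atTop ≤
        limsup (fun m : ℕ => ((C * phi d m : ℕ) : ℝ≥0∞) / (m : ℝ≥0∞) ^ d) atTop := by
      refine limsup_le_limsup ?_
      filter_upwards [eventually_gt_atTop 0] with m hm
      exact ENNReal.div_le_div_right (by exact_mod_cast h1 m hm) _
    rw [(phi_tendsto' d C).limsup_eq] at h2
    exact absurd hpos (not_lt.mpr h2)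
  -- all residues at once
  choose c hc using fun r : ℕ => exists_pos_twist k hH hB hd hB0 (g ^ r)
  set e := ∑ r ∈ Finset.range a, c r with he
  have hle : ∀ r, r < a → c r ≤ e := fun r hr =>
    Finset.single_le_sum (fun i _ => Nat.zero_le (c i)) (Finset.mem_range.2 hr)
  have hres : ∀ r, r < a → 0 < hq k 0 (Coh.structureModule X) (g ^ r * b ^ e) := by
    intro r hr
    obtain ⟨t, ht⟩ := Nat.exists_eq_add_of_le (hle r hr)
    rcases Nat.eq_zero_or_pos t with rfl | ht0
    · rw [ht, add_zero]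
      exact hc r
    · rw [ht, pow_add, ← mul_assoc]
      exact h0_mul_pos k (hc r) (h0_pow_pos k hB0 ht0)
  -- lower bound along `a j + r`
  have hlow : ∀ m : ℕ, a * (e + 1) ≤ m → hq k 0 (Coh.structureModule X) (b ^ (m / a - e)) ≤
      hq k 0 (Coh.structureModule X) (g ^ m) := by
    intro m hm
    have hj : e + 1 ≤ m / a := (Nat.le_div_iff_mul_le ha).2 (by rwa [mul_comm])
    have hmod := Nat.mod_lt m ha
    have h1 := hres _ hmod
    have h2 := h0_pow_pos k hapos (j := m / a) (by omega)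
    have h3 := h0_le_mul k (h0_mul_pos k h1 h2) (b ^ (m / a - e))
    refine h3.trans_eq ?_
    congr 1
    obtain ⟨t, ht⟩ := Nat.exists_eq_add_of_le (show e ≤ m / a by omega)
    have h4 : m = m % a + a * (e + t) := by rw [← ht, Nat.mod_add_div]
    rw [ht, Nat.add_sub_cancel_left]
    conv_rhs => rw [h4]
    have h5 : b ^ e * (b⁻¹) ^ (e + t) * b ^ t = 1 := by
      rw [inv_pow, pow_add, mul_inv]
      simp
    calc g ^ (m % a) * b ^ e * (b⁻¹ * g ^ a) ^ (e + t) * b ^ t
        = g ^ (m % a) * (g ^ a) ^ (e + t) * (b ^ e * (b⁻¹) ^ (e + t) * b ^ t) := by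
          rw [mul_pow]
          simp only [mul_comm, mul_left_comm, mul_assoc]
      _ = g ^ (m % a + a * (e + t)) := by rw [h5, mul_one, ← pow_mul, ← pow_add]
  obtain ⟨q, n₀, hq0, hn₀⟩ := lower_pow k hB hd hB0
  -- the constant
  set δ : ℝ≥0∞ := ENNReal.ofReal (((q / (2 * a) ^ d : ℚ)) : ℝ) with hδ
  have hδ0 : 0 < δ := by
    rw [hδ, ENNReal.ofReal_pos]
    have : (0 : ℚ) < q / (2 * a) ^ d := by positivity
    exact_mod_cast this
  refine hδ0.trans_le (le_liminf_of_le (by isBoundedDefault) ?_)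
  filter_upwards [eventually_ge_atTop (a * (e + 1)), eventually_ge_atTop (a * (n₀ + e)),
    eventually_ge_atTop (2 * a * (e + 1) + 1)] with m hm1 hm2 hm3
  have h1 := hlow m hm1
  have h2 : n₀ ≤ m / a - e := by
    have : n₀ + e ≤ m / a := (Nat.le_div_iff_mul_le ha).2 (by rwa [mul_comm])
    omega
  have h3 := hn₀ _ h2
  have hdm := Nat.div_add_mod m a
  have hmod := Nat.mod_lt m ha
  have h4 : m ≤ 2 * a * (m / a - e) := by
    have h5 : e + 1 ≤ m / a := (Nat.le_div_iff_mul_le ha).2 (by rwa [mul_comm])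
    obtain ⟨t, ht⟩ := Nat.exists_eq_add_of_le (show e ≤ m / a by omega)
    rw [ht, Nat.add_sub_cancel_left]
    rw [ht] at hdm
    nlinarith
  have hm0 : (0 : ℚ) < m := by
    have : 0 < m := by omega
    exact_mod_cast this
  have h6 : q / (2 * a) ^ d * (m : ℚ) ^ d ≤ hq k 0 (Coh.structureModule X) (g ^ m) := by
    have h7 : (m : ℚ) ^ d ≤ (2 * a * (m / a - e : ℕ)) ^ d :=
      pow_le_pow_left₀ hm0.le (by exact_mod_cast h4) d
    calc q / (2 * a) ^ d * (m : ℚ) ^ d ≤ q / (2 * a) ^ d * (2 * a * (m / a - e : ℕ)) ^ d := by gcongr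
      _ = q * ((m / a - e : ℕ) : ℚ) ^ d := by
          rw [mul_pow (2 * (a : ℚ)), ← mul_assoc, div_mul_cancel₀ _ (by positivity)]
      _ ≤ _ := h3.trans (by exact_mod_cast h1)
  rw [ENNReal.le_div_iff_mul_le (Or.inl (by
      have : (m : ℝ≥0∞) ≠ 0 := by
        have : m ≠ 0 := by omega
        exact_mod_cast this
      exact pow_ne_zero _ this)) (Or.inl (ENNReal.pow_ne_top (ENNReal.natCast_ne_top m))), hδ]
  rw [← ENNReal.ofReal_natCast m, ← ENNReal.ofReal_pow (Nat.cast_nonneg m), ← ENNReal.ofReal_mul (by positivity),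
    ← ENNReal.ofReal_natCast (hq k 0 _ _)]
  apply ENNReal.ofReal_le_ofReal
  exact_mod_cast h6

end K433.VolBig
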