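import Groth.Agent.Variety.K433.GrowthHom
import Groth.Agent.VarietyA.DegRank
import Groth.Agent.PerfC.FTDesc
import Groth.Agent.S2325

/-!
# Coherent modules of generic rank `r` against `r` copies of the structure module

* `freeR Y n`: the direct sum of `n` copies of `O_Y`.
* `exists_free_map`: `M` coherent and globally generated on an integral Noetherian scheme, of generic rank `r`: there is
  `O^r ⟶ M` with kernel and cokernel zero at the generic point.
* `near_rank_list`: `h^q(F ⊗ g^w)` against `r h^q(g^w)`.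
-/

set_option autoImplicit false
universe u v
open CategoryTheory CategoryTheory.Limits AlgebraicGeometry Opposite TopologicalSpace
open scoped ZeroObject

namespace K433.Growth

open Groth.Agent Groth.Agent.Ega2 Groth.Agent.Fdesc.LocGen Groth.Agent.Fga.RegSec
open Groth.Agent.CohqB.SerTw Groth.Agent.Grpsch.PicGrp K433.Hq Groth.Agent.VarietyA.EulerLES
open Groth.Agent.CycB.StalkExact Groth.Agent.VarietyA.DegRank
open Groth.Agent.Pic13.H946.Core (cokSeq cokSeq_shortExact finrank_congr support_tw)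

section biprod

variable {Y : Scheme.{u}} (k : Type u) [Field k] [Y.Over (Spec (CommRingCat.of k))]

theorem mapA_injective {M N : Y.Modules} (i : M ⟶ N) (r : N ⟶ M) (h : i ≫ r = 𝟙 M) (q : ℕ) :
    Function.Injective (mapA k i q) := by
  refine Function.LeftInverse.injective (g := mapA k r q) fun x => ?_
  have := LinearMap.congr_fun (mapA_comp k i r q) x
  rw [h, mapA_id] at this
  exact this.symm

theorem mapA_surjective {M N : Y.Modules} (i : M ⟶ N) (r : N ⟶ M) (h : i ≫ r = 𝟙 M) (q : ℕ) :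
    Function.Surjective (mapA k r q) := by
  refine Function.RightInverse.surjective (g := mapA k i q) fun x => ?_
  have := LinearMap.congr_fun (mapA_comp k i r q) x
  rw [h, mapA_id] at this
  exact this.symm

theorem hh_split (T : ShortComplex Y.Modules) (hT : T.ShortExact) (r : T.X₂ ⟶ T.X₁) (hr : T.f ≫ r = 𝟙 _)
    (s : T.X₃ ⟶ T.X₂) (hs : s ≫ T.g = 𝟙 _) (q : ℕ) (f2 : Module.Finite k (Coh.HH Y T.X₂ q)) :
    hh k T.X₂ q = hh k T.X₁ q + hh k T.X₃ q := by
  have h := VarietyA.EulerAdd.finrank_eq k T hT q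
  rw [LinearMap.finrank_range_of_inj (mapA_injective k T.f r hr q),
    LinearMap.range_eq_top.mpr (mapA_surjective k s T.g hs q), finrank_top] at h
  exact h

variable [IsProper (Y ↘ Spec (CommRingCat.of k))]

theorem hq_biprod {F G : Y.Modules} (hF : Coh.IsCoh F) (hG : Coh.IsCoh G) (q : ℕ) (c : Pic Y) :
    hq k q (F ⊞ G) c = hq k q F c + hq k q G c := by
  let S : ShortComplex Y.Modules := ShortComplex.mk (biprod.inl : F ⟶ F ⊞ G) biprod.snd biprod.inl_snd
  have hS : S.ShortExact := (ShortComplex.Splitting.ofHasBinaryBiproduct F G).shortExact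
  have := Fga.HypSec.isNoetherian k Y
  refine hh_split k (S.map (tw (rep c))) (shortExact_tw (rep_inv c) hS)
    ((tw (rep c)).map (biprod.fst : F ⊞ G ⟶ F)) ?_ ((tw (rep c)).map (biprod.inr : G ⟶ F ⊞ G)) ?_ q
    (S0002.result k Y _ (Fga.TwistCoh.isCoh_tensor (Sga67.CohBasic.isCoh_biprod hF hG) (rep_inv c)) q)
  · exact ((tw (rep c)).map_comp _ _).symm.trans ((congrArg _ biprod.inl_fst).trans ((tw (rep c)).map_id F))
  · exact ((tw (rep c)).map_comp _ _).symm.trans ((congrArg _ biprod.inr_snd).trans ((tw (rep c)).map_id G))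

end biprod

/-- The direct sum of `n` copies of `O_Y`. -/
noncomputable def freeR (Y : Scheme.{u}) : ℕ → Y.Modules
  | 0 => 0
  | n + 1 => freeR Y n ⊞ Coh.structureModule Y

theorem isCoh_zero {Y : Scheme.{u}} [IsLocallyNoetherian Y] {M : Y.Modules} (hM : IsZero M) : Coh.IsCoh M := by
  have h1 : Coh.IsCoh (cokernel (𝟙 (Coh.structureModule Y))) :=
    isCoh_cokernel (𝟙 (Coh.structureModule Y)) (Fdesc.StructMod.isCoh_structureModule Y).1
      (Fdesc.StructMod.isCoh_structureModule Y)
  exact isCoh_of_iso ((isZero_cokernel_of_epi (𝟙 (Coh.structureModule Y))).iso hM) h1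

theorem isCoh_freeR (Y : Scheme.{u}) [IsLocallyNoetherian Y] (n : ℕ) : Coh.IsCoh (freeR Y n) := by
  induction n with
  | zero => exact isCoh_zero (isZero_zero _)
  | succ n ih => exact Sga67.CohBasic.isCoh_biprod ih (Fdesc.StructMod.isCoh_structureModule Y)

theorem hq_freeR (k : Type u) [Field k] {Y : Scheme.{u}} [Y.Over (Spec (CommRingCat.of k))]
    [IsProper (Y ↘ Spec (CommRingCat.of k))] (n q : ℕ) (c : Pic Y) :
    hq k q (freeR Y n) c = n * hq k q (Coh.structureModule Y) c := by
  have := Fga.HypSec.isNoetherian k Y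
  induction n with
  | zero =>
    rw [zero_mul]
    exact hq_eq_zero k q (CohqB.DevSupport.support_eq_empty_of_isZero (isZero_zero _)) c
  | succ n ih =>
    rw [freeR, hq_biprod k (isCoh_freeR Y n) (Fdesc.StructMod.isCoh_structureModule Y) q c, ih]
    ring

section rank

variable {Y : Scheme.{u}} [IsIntegral Y] [IsNoetherian Y]

theorem rk_biprod {F G : Y.Modules} (hF : Coh.IsCoh F) (hG : Coh.IsCoh G) : rk (F ⊞ G) = rk F + rk G :=
  rk_add (ShortComplex.mk (biprod.inl : F ⟶ F ⊞ G) biprod.snd biprod.inl_snd)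
    (ShortComplex.Splitting.ofHasBinaryBiproduct F G).shortExact (Sga67.CohBasic.isCoh_biprod hF hG)

theorem rk_freeR (n : ℕ) : rk (freeR Y n) = n := by
  induction n with
  | zero =>
    refine rk_eq_zero _ fun h => ?_
    have h1 : CohB1.support (freeR Y 0) = ∅ := CohqB.DevSupport.support_eq_empty_of_isZero (isZero_zero _)
    rw [h1] at h
    exact h
  | succ n ih =>
    rw [freeR, rk_biprod (isCoh_freeR Y n) (Fdesc.StructMod.isCoh_structureModule Y), ih, rk_structureModule]

theorem not_mem_support_of_rk {F : Y.Modules} (hF : Coh.IsCoh F) (h : rk F = 0) : genericPoint Y ∉ CohB1.support F := by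
  have hfin : Module.Finite (Y.presheaf.stalk (genericPoint Y)) (F.presheaf.stalk (genericPoint Y)) :=
    Ega1.FTStalkFin.stalk_finite F hF.2 _
  let _ : Field (Y.presheaf.stalk (genericPoint Y)) := inferInstanceAs (Field Y.functionField)
  have h1 : Subsingleton (F.presheaf.stalk (genericPoint Y)) :=
    Module.finrank_zero_iff.mp h
  exact fun h => h h1

/-- A module which is globally generated has a section with nonzero germ in a given nonzero stalk of a quotient. -/
theorem exists_section_germ {M Q : Y.Modules} (hM : Curv2.IsGloballyGenerated M) (π : M ⟶ Q) [Epi π] (x : Y)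
    (hx : x ∈ CohB1.support Q) :
    ∃ s : Γ(M, ⊤), Q.presheaf.germ ⊤ x trivial (π.app ⊤ s) ≠ 0 := by
  obtain ⟨ι, p, hp⟩ := hM
  let G : SheafOfModules.GeneratingSections (R := Y.ringCatSheaf) M :=
    { I := ι
      s := SheafOfModules.freeHomEquiv (R := Y.ringCatSheaf) M p
      epi := by
        rw [Equiv.symm_apply_apply]
        exact hp }
  have h := PerfC.FTDesc.span_germ_eq_top G x
  by_contra hcon
  push Not at hcon
  apply hx
  have h1 : stalkLin π x = 0 := by
    refine LinearMap.ext_on (s := Set.range fun i => M.presheaf.germ ⊤ x trivial ((G.s i).val (.op ⊤))) h ?_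
    rintro _ ⟨i, rfl⟩
    rw [stalkLin_germ]
    exact hcon _
  have h2 := stalkLin_surjective π x
  rw [h1] at h2
  exact subsingleton_of_forall_eq 0 fun y => by
    obtain ⟨z, hz⟩ := h2 y
    rw [← hz]; rfl

/-- Adding a section with nonzero germ in the cokernel lowers the rank of the cokernel. -/
theorem exists_step {E M : Y.Modules} (hE : Coh.IsCoh E) (hM : Coh.IsCoh M) (hg : Curv2.IsGloballyGenerated M)
    (φ : E ⟶ M) (h : rk (cokernel φ) ≠ 0) :
    ∃ ψ : E ⊞ Coh.structureModule Y ⟶ M, rk (cokernel ψ) < rk (cokernel φ) := by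
  have hC : Coh.IsCoh (cokernel φ) := isCoh_cokernel φ hE.1 hM
  have hx : genericPoint Y ∈ CohB1.support (cokernel φ) := by
    by_contra hcon
    exact h (rk_eq_zero _ hcon)
  obtain ⟨s, hs⟩ := exists_section_germ hg (cokernel.π φ) _ hx
  let ψ : E ⊞ Coh.structureModule Y ⟶ M := biprod.desc φ (homOf s)
  refine ⟨ψ, ?_⟩
  have hO := Fdesc.StructMod.isCoh_structureModule Y
  have hψ : Coh.IsCoh (cokernel ψ) := isCoh_cokernel ψ (Sga67.CohBasic.isCoh_biprod hE hO).1 hM
  -- the surjection of cokernels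
  have hφψ : φ ≫ cokernel.π ψ = 0 := by
    rw [← biprod.inl_desc φ (homOf s), Category.assoc, cokernel.condition ψ, comp_zero]
  have hsψ : homOf s ≫ cokernel.π ψ = 0 := by
    rw [← biprod.inr_desc φ (homOf s), Category.assoc, cokernel.condition ψ, comp_zero]
  let ρ : cokernel φ ⟶ cokernel ψ := cokernel.desc φ (cokernel.π ψ) hφψ
  have hρ : cokernel.π φ ≫ ρ = cokernel.π ψ := cokernel.π_desc _ _ _
  have hρe : Epi ρ := by
    have : Epi (cokernel.π φ ≫ ρ) := by rw [hρ]; infer_instance
    exact epi_of_epi (cokernel.π φ) ρ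
  have hT : (ShortComplex.mk (kernel.ι ρ) ρ (kernel.condition ρ)).ShortExact :=
    { exact := ShortComplex.exact_of_f_is_kernel _ (kernelIsKernel ρ)
      mono_f := inferInstanceAs (Mono (kernel.ι ρ))
      epi_g := hρe }
  have hadd := rk_add _ hT hC
  have hK : Coh.IsCoh (kernel ρ) := Sga67.CohBasic.isCoh_kernel _ hC hψ.1
  have hKrk : rk (kernel ρ) ≠ 0 := by
    intro h0
    have h1 := not_mem_support_of_rk hK h0
    have h2 : Subsingleton ((kernel ρ).presheaf.stalk (genericPoint Y)) := not_not.mp h1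
    let t : Coh.structureModule Y ⟶ kernel ρ := kernel.lift ρ (homOf s ≫ cokernel.π φ) (by
      rw [Category.assoc, hρ, hsψ])
    have ht : t ≫ kernel.ι ρ = homOf s ≫ cokernel.π φ := kernel.lift_ι _ _ _
    apply hs
    have h3 : (cokernel.π φ).app ⊤ s = (t ≫ kernel.ι ρ).app ⊤ (one ⊤) := by
      rw [ht]
      change _ = (cokernel.π φ).app ⊤ ((homOf s).app ⊤ (one ⊤))
      congr 1
      exact ((sec_homOf s ⊤).trans (res_refl _ _)).symm
    rw [h3]
    change (cokernel φ).presheaf.germ ⊤ (genericPoint Y) trivial ((kernel.ι ρ).app ⊤ (t.app ⊤ (one ⊤))) = 0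
    rw [← stalkLin_germ (kernel.ι ρ) (genericPoint Y) (U := ⊤) trivial]
    rw [Subsingleton.elim ((kernel ρ).presheaf.germ ⊤ (genericPoint Y) trivial (t.app ⊤ (one ⊤))) 0, map_zero]
  change rk (cokernel φ) = rk (kernel ρ) + rk (cokernel ψ) at hadd
  omega

/-- A map from a free module which is an isomorphism at the generic point. -/
theorem exists_free_map {M : Y.Modules} (hM : Coh.IsCoh M) (hg : Curv2.IsGloballyGenerated M) :
    ∃ φ : freeR Y (rk M) ⟶ M, genericPoint Y ∉ CohB1.support (kernel φ) ∧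
      genericPoint Y ∉ CohB1.support (cokernel φ) := by
  have key : ∀ s : ℕ, ∃ φ : freeR Y s ⟶ M, rk (cokernel φ) ≤ rk M - s := by
    intro s
    induction s with
    | zero =>
      refine ⟨0, ?_⟩
      have e : cokernel (0 : freeR Y 0 ⟶ M) ≅ M := cokernelZeroIsoTarget
      rw [rk_iso e]; exact le_rfl
    | succ s ih =>
      obtain ⟨φ, hφ⟩ := ih
      by_cases h : rk (cokernel φ) = 0
      · refine ⟨biprod.desc φ 0, ?_⟩
        have hE := isCoh_freeR Y s
        have hO := Fdesc.StructMod.isCoh_structureModule Y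
        let ψ : freeR Y s ⊞ Coh.structureModule Y ⟶ M := biprod.desc φ 0
        have hφψ : φ ≫ cokernel.π ψ = 0 := by
          rw [← biprod.inl_desc φ (0 : Coh.structureModule Y ⟶ M), Category.assoc, cokernel.condition ψ, comp_zero]
        let ρ : cokernel φ ⟶ cokernel ψ := cokernel.desc φ (cokernel.π ψ) hφψ
        have hρ : cokernel.π φ ≫ ρ = cokernel.π ψ := cokernel.π_desc _ _ _
        have hρe : Epi ρ := by
          have : Epi (cokernel.π φ ≫ ρ) := by rw [hρ]; infer_instance
          exact epi_of_epi (cokernel.π φ) ρ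
        have hC : Coh.IsCoh (cokernel φ) := isCoh_cokernel φ hE.1 hM
        have h1 := not_mem_support_of_rk hC h
        have h2 : genericPoint Y ∉ CohB1.support (cokernel ψ) := fun h' =>
          h1 (CohqB.DevSupport.support_subset_of_epi ρ h')
        exact (rk_eq_zero _ h2).le.trans (Nat.zero_le _)
      · obtain ⟨ψ, hψ⟩ := exists_step (isCoh_freeR Y s) hM hg φ h
        refine ⟨ψ, ?_⟩
        change rk (cokernel ψ) ≤ _
        omega
  obtain ⟨φ, hφ⟩ := key (rk M)
  have hC : Coh.IsCoh (cokernel φ) := isCoh_cokernel φ (isCoh_freeR Y _).1 hM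
  have hK : Coh.IsCoh (kernel φ) := Sga67.CohBasic.isCoh_kernel _ (isCoh_freeR Y _) hM.1
  have hC0 : rk (cokernel φ) = 0 := by omega
  refine ⟨φ, not_mem_support_of_rk hK ?_, not_mem_support_of_rk hC hC0⟩
  -- rank count
  have hI : Coh.IsCoh (Abelian.coimage φ) := isCoh_cokernel (kernel.ι φ) hK.1 (isCoh_freeR Y _)
  have h1 := rk_add _ (cokSeq_shortExact (kernel.ι φ)) (isCoh_freeR Y _)
  let j : Abelian.coimage φ ⟶ M := Abelian.coimageImageComparison φ ≫ Abelian.image.ι φ
  have hj : Mono j := mono_comp _ _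
  have hfac : Abelian.coimage.π φ ≫ j = φ := Abelian.coimage_image_factorisation φ
  have e1 : cokernel (Abelian.coimage.π φ ≫ j) ≅ cokernel j := cokernelEpiComp _ _
  have h2 := rk_add _ (cokSeq_shortExact j) hM
  have h3 : rk (cokernel j) = rk (cokernel φ) := rk_iso (e1.symm ≪≫ cokernelIsoOfEq hfac)
  change rk (freeR Y (rk M)) = rk (kernel φ) + rk (Abelian.coimage φ) at h1
  change rk M = rk (Abelian.coimage φ) + rk (cokernel j) at h2
  rw [rk_freeR] at h1
  omega

theorem rk_eq_of_generic {F G : Y.Modules} (hF : Coh.IsCoh F) (hG : Coh.IsCoh G) (φ : F ⟶ G)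
    (hK : genericPoint Y ∉ CohB1.support (kernel φ)) (hC : genericPoint Y ∉ CohB1.support (cokernel φ)) :
    rk F = rk G := by
  have hKc : Coh.IsCoh (kernel φ) := Sga67.CohBasic.isCoh_kernel _ hF hG.1
  have h1 := rk_add _ (cokSeq_shortExact (kernel.ι φ)) hF
  let j : Abelian.coimage φ ⟶ G := Abelian.coimageImageComparison φ ≫ Abelian.image.ι φ
  have hj : Mono j := mono_comp _ _
  have hfac : Abelian.coimage.π φ ≫ j = φ := Abelian.coimage_image_factorisation φ
  have e1 : cokernel (Abelian.coimage.π φ ≫ j) ≅ cokernel j := cokernelEpiComp _ _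
  have h2 := rk_add _ (cokSeq_shortExact j) hG
  have h3 : rk (cokernel j) = rk (cokernel φ) := rk_iso (e1.symm ≪≫ cokernelIsoOfEq hfac)
  change rk F = rk (kernel φ) + rk (Abelian.coimage φ) at h1
  change rk G = rk (Abelian.coimage φ) + rk (cokernel j) at h2
  rw [rk_eq_zero _ hK] at h1
  rw [h3, rk_eq_zero _ hC] at h2
  omega

end rank

theorem image_id {Y : Scheme.{u}} (S : Set Y) : (𝟙 Y : Y ⟶ Y) '' S = S := by
  ext y
  constructor
  · rintro ⟨z, hz, rfl⟩; exact hz
  · intro hy; exact ⟨y, hy, rfl⟩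

theorem isClosedMap_id' (Y : Scheme.{u}) : IsClosedMap (𝟙 Y : Y ⟶ Y) := by
  intro S hS
  rw [image_id]; exact hS

theorem dimLT_id_iff {Y : Scheme.{u}} {e : ℕ} {F : Y.Modules} :
    DimLT (𝟙 Y) e F ↔ topologicalKrullDim (CohB1.support F) < (e : WithBot ℕ∞) := by
  unfold DimLT
  rw [image_id]

theorem lt_succ_of_le {x : WithBot ℕ∞} {n : ℕ} (h : x ≤ n) : x < ((n + 1 : ℕ) : WithBot ℕ∞) :=
  lt_of_le_of_lt h (by exact_mod_cast Nat.lt_succ_self n)

theorem dimLT_of_dim_le {Y : Scheme.{u}} {n : ℕ} (hn : topologicalKrullDim Y ≤ n) (F : Y.Modules) :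
    DimLT (𝟙 Y) (n + 1) F := by
  rw [dimLT_id_iff]
  exact lt_succ_of_le ((Topology.IsInducing.subtypeVal.topologicalKrullDim_le).trans hn)

theorem dimLT_of_generic {Y : Scheme.{u}} [IrreducibleSpace Y] {n : ℕ} (hn : topologicalKrullDim Y ≤ n) {F : Y.Modules}
    (hF : Coh.IsCoh F) (h : genericPoint Y ∉ CohB1.support F) : DimLT (𝟙 Y) n F := by
  rw [dimLT_id_iff]
  refine Fga.DimLt.topologicalKrullDim_lt (A := Set.univ) (IrreducibleSpace.isIrreducible_univ Y)
    (S0020.result Y F hF.2) (Set.subset_univ _) (fun h' => h (by rw [h']; trivial)) (lt_succ_of_le ?_)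
  exact (Topology.IsInducing.subtypeVal.topologicalKrullDim_le).trans hn

variable {Y : Scheme.{u}} (k : Type u) [Field k] [Y.Over (Spec (CommRingCat.of k))]
  [IsProper (Y ↘ Spec (CommRingCat.of k))] {A : Y.Modules} (hA : CohB1.IsAmple A) {ι : Type v}

include k hA

/-- A twist of `F` by an invertible module with a section generating at the generic point is globally generated. -/
theorem exists_gg_twist [IsIntegral Y] {F : Y.Modules} (hF : Coh.IsCoh F) :
    ∃ (N : Y.Modules) (_ : PicF.IsInvertible N) (t : Coh.structureModule Y ⟶ N),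
      genericPoint Y ∈ CohB1.genLocus N t ∧ Curv2.IsGloballyGenerated (CohB1.tensorMod N F) := by
  have := Fga.HypSec.isNoetherian k Y
  have := Fga.HypSec.isSeparated k Y
  obtain ⟨m, t, ht, -, -⟩ := S2324.result Y A hA {genericPoint Y} (Set.finite_singleton _) ⊤ (fun _ _ => trivial)
  obtain ⟨n₀, hn₀⟩ := S2325.result Y A hA F hF
  have hAm := isInvertible_tensorPow hA.1 (m + 1)
  refine ⟨CohB1.tensorPow (CohB1.tensorPow A (m + 1)) (n₀ + 1), isInvertible_tensorPow hAm _, powHom t (n₀ + 1), ?_, ?_⟩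
  · rw [genLocus_powHom hAm]
    exact ht rfl
  · have h1 := hn₀ ((m + 1) * (n₀ + 1)) (by nlinarith)
    refine Ega2.GlobGenCrit.isGloballyGenerated_of_iso ?_ h1
    refine Classical.choice ((Fga.PicMon.mc_eq_iff _ _).mp ?_)
    rw [Fga.PicMon.mc_tensor, Fga.PicMon.mc_tensor, Fga.PicMon.mc_tensorPow, Fga.PicMon.mc_tensorPow,
      Fga.PicMon.mc_tensorPow, ← pow_mul, mul_comm]

variable {S : Set (Pic Y)} (hS : Bdd k S)

include hS

/-- **Generic rank**, words version. -/
theorem near_rank_list [IsIntegral Y] [Finite ι] (g : ι → Pic Y) {n : ℕ} (hn : topologicalKrullDim Y ≤ n)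
    {F : Y.Modules} (hF : Coh.IsCoh F) (q : ℕ) : ∃ C : ℕ, ∀ ν ∈ S, ∀ w : List ι,
      Near (hq k q F ((w.map g).prod * ν)) (rk F * hq k q (Coh.structureModule Y) ((w.map g).prod * ν))
        (C * phi n w.length) := by
  have := Fga.HypSec.isNoetherian k Y
  have := Fga.HypSec.isSeparated k Y
  obtain ⟨N, hN, t, ht, hgg⟩ := exists_gg_twist k hA hF
  have hM : Coh.IsCoh (CohB1.tensorMod N F) :=
    Sga67.CohBasic.isCoh_of_iso (Ega2.Tens.swap F _) (Fga.TwistCoh.isCoh_tensor hF hN)
  have hiso := isIso_stalk_mulS t F ht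
  have hrk : rk F = rk (CohB1.tensorMod N F) := rk_eq_of_generic hF hM (mulS t F)
    (not_mem_support_kernel _ hiso) (not_mem_support_cokernel _ inferInstance)
  obtain ⟨φ, hK, hC⟩ := exists_free_map hM hgg
  have hKc : Coh.IsCoh (kernel φ) := Sga67.CohBasic.isCoh_kernel _ (isCoh_freeR Y _) hM.1
  have hCc : Coh.IsCoh (cokernel φ) := isCoh_cokernel φ (isCoh_freeR Y _).1 hM
  obtain ⟨C₁, hC₁⟩ := near_hom_list k hA (isClosedMap_id' Y) hS g φ (isCoh_freeR Y _) hM
    (dimLT_of_generic hn hKc hK) (dimLT_of_generic hn hCc hC) q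
  obtain ⟨C₂, hC₂⟩ := near_list k hA (isClosedMap_id' Y) hS g hF (dimLT_of_dim_le hn F) (mk N hN) q
  refine ⟨C₂ + C₁, fun ν hν w => ?_⟩
  have h1 := hC₁ ν hν w
  have h2 := hC₂ ν hν w
  rw [pull_id] at h1 h2
  rw [pull_id, mul_assoc] at h2
  rw [hq_freeR, ← hrk, hq_tensor' k q F hN] at h1
  rw [add_mul]
  exact Near.trans h2.symm h1.symm

/-- **Generic rank**, integer exponents. -/
theorem near_rank_zpow [IsIntegral Y] [Fintype ι] (g : ι → Pic Y) {n : ℕ} (hn : topologicalKrullDim Y ≤ n)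
    {F : Y.Modules} (hF : Coh.IsCoh F) (q : ℕ) : ∃ C : ℕ, ∀ ν ∈ S, ∀ a : ι → ℤ,
      Near (hq k q F ((∏ i, g i ^ a i) * ν)) (rk F * hq k q (Coh.structureModule Y) ((∏ i, g i ^ a i) * ν))
        (C * phi n (∑ i, (a i).natAbs)) := by
  obtain ⟨C, hC⟩ := near_rank_list k hA hS (sgn g) hn hF q
  refine ⟨C, fun ν hν a => ?_⟩
  obtain ⟨w, h1, h2⟩ := exists_word g a
  rw [← h1, ← h2]
  exact hC ν hν w

/-- **Generic rank**, powers of one class. -/
theorem near_rank_pow [IsIntegral Y] (g : Pic Y) {n : ℕ} (hn : topologicalKrullDim Y ≤ n)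
    {F : Y.Modules} (hF : Coh.IsCoh F) (q : ℕ) : ∃ C : ℕ, ∀ ν ∈ S, ∀ m : ℕ,
      Near (hq k q F (g ^ m * ν)) (rk F * hq k q (Coh.structureModule Y) (g ^ m * ν)) (C * phi n m) := by
  obtain ⟨C, hC⟩ := near_rank_list k hA hS (fun _ : Unit => g) hn hF q
  refine ⟨C, fun ν hν m => ?_⟩
  have := hC ν hν (List.replicate m ())
  rwa [List.map_replicate, List.prod_replicate, List.length_replicate] at this

end K433.Growth
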