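import Groth.Agent.Fdesc.GeomRed
import Groth.Agent.S2111
import Mathlib.RingTheory.TensorProduct.IncludeLeftSubRight
import Mathlib.RingTheory.Jacobson.Ring
import Mathlib.FieldTheory.IsAlgClosed.Basic

/-!
# Functions constant on the fibres descend (algebra, characteristic zero)

* `exists_algHom`, `isNilpotent_of_forall`: Nullstellensatz over an algebraically closed field.
* `exists_mul_eq`: an element of `B` equal at any two `k`-points of `B` with the same restriction to `A` is a
  fraction of `A` (domains, characteristic zero).
-/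

set_option autoImplicit false
universe u

namespace K433.FibConst

open TensorProduct

section Nullst

variable (k : Type u) [Field k] [IsAlgClosed k] (C : Type u) [CommRing C] [Algebra k C] [Algebra.FiniteType k C]

/-- Points of a maximal ideal of a finite type algebra over an algebraically closed field. -/
theorem exists_algHom (m : Ideal C) [m.IsMaximal] : ∃ φ : C →ₐ[k] k, RingHom.ker φ = m := by
  let : Field (C ⧸ m) := Ideal.Quotient.field m
  have : Algebra.FiniteType k (C ⧸ m) := inferInstance
  have : Module.Finite k (C ⧸ m) := finite_of_finite_type_of_isJacobsonRing k (C ⧸ m)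
  have hb := IsAlgClosed.algebraMap_bijective_of_isIntegral (k := k) (K := C ⧸ m)
  let e : k ≃ₐ[k] (C ⧸ m) := AlgEquiv.ofBijective (Algebra.ofId k (C ⧸ m)) hb
  refine ⟨(e.symm : (C ⧸ m) →ₐ[k] k).comp (Ideal.Quotient.mkₐ k m), ?_⟩
  ext c
  simp only [RingHom.mem_ker, AlgHom.comp_apply, Ideal.Quotient.mkₐ_eq_mk]
  constructor
  · intro h
    rw [← Ideal.Quotient.eq_zero_iff_mem]
    exact e.symm.injective (by simpa using h)
  · intro h
    rw [Ideal.Quotient.eq_zero_iff_mem.2 h, map_zero]

/-- An element killed by all `k`-points is nilpotent. -/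
theorem isNilpotent_of_forall (c : C) (h : ∀ φ : C →ₐ[k] k, φ c = 0) : IsNilpotent c := by
  have hJ : IsJacobsonRing C := isJacobsonRing_of_finiteType (A := k)
  rw [← mem_nilradical, nilradical, Ideal.radical_eq_jacobson, Ideal.jacobson, Ideal.mem_sInf]
  rintro m ⟨-, hm⟩
  obtain ⟨φ, rfl⟩ := exists_algHom k C m
  exact h φ

end Nullst

section Main

variable (k : Type u) [Field k] [IsAlgClosed k] [CharZero k]

theorem exists_mul_eq (A B : Type u) [CommRing A] [IsDomain A] [CommRing B] [IsDomain B] [Algebra k A]
    [Algebra k B] [Algebra A B] [IsScalarTower k A B] [Algebra.FiniteType k B]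
    (hinj : Function.Injective (algebraMap A B)) (s : B)
    (hs : ∀ φ₁ φ₂ : B →ₐ[k] k, (∀ a : A, φ₁ (algebraMap A B a) = φ₂ (algebraMap A B a)) → φ₁ s = φ₂ s) :
    ∃ a b : A, b ≠ 0 ∧ s * algebraMap A B b = algebraMap A B a := by
  have : Algebra.FiniteType A B := Algebra.FiniteType.of_restrictScalars_finiteType k A B
  have : Algebra.FiniteType k (B ⊗[A] B) := Algebra.FiniteType.trans (S := B) inferInstance inferInstance
  have hnil : IsNilpotent (s ⊗ₜ[A] (1 : B) - (1 : B) ⊗ₜ[A] s) := by
    apply isNilpotent_of_forall k
    intro φ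
    let φ₁ : B →ₐ[k] k := φ.comp (Algebra.TensorProduct.includeLeft : B →ₐ[k] B ⊗[A] B)
    let φ₂ : B →ₐ[k] k := φ.comp ((Algebra.TensorProduct.includeRight : B →ₐ[A] B ⊗[A] B).restrictScalars k)
    have := hs φ₁ φ₂ fun a => by
      change φ (algebraMap A B a ⊗ₜ[A] (1 : B)) = φ ((1 : B) ⊗ₜ[A] algebraMap A B a)
      rw [Algebra.algebraMap_eq_smul_one, TensorProduct.smul_tmul]
    rw [map_sub, sub_eq_zero]
    exact this
  have hB : Function.Injective (algebraMap B (FractionRing B)) := IsFractionRing.injective _ _
  have : FaithfulSMul A (FractionRing B) := by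
    rw [faithfulSMul_iff_algebraMap_injective, IsScalarTower.algebraMap_eq A B (FractionRing B)]
    exact hB.comp hinj
  let _ : Algebra (FractionRing A) (FractionRing B) := FractionRing.liftAlgebra A (FractionRing B)
  have : IsScalarTower A (FractionRing A) (FractionRing B) := FractionRing.isScalarTower_liftAlgebra A (FractionRing B)
  have hAk : Function.Injective (algebraMap k (FractionRing A)) := RingHom.injective _
  have : CharZero (FractionRing A) := charZero_of_injective_algebraMap hAk
  have hred : IsReduced (FractionRing B ⊗[FractionRing A] FractionRing B) :=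
    Groth.Agent.Fdesc.GeomRed.isReduced_tensor_of_perfectField (k := FractionRing A) _ _
  let g : B ⊗[A] B →ₐ[A] FractionRing B ⊗[FractionRing A] FractionRing B :=
    Algebra.TensorProduct.lift
      (((Algebra.TensorProduct.includeLeft : FractionRing B →ₐ[FractionRing A] FractionRing B ⊗[FractionRing A] FractionRing B).restrictScalars A).comp (IsScalarTower.toAlgHom A B (FractionRing B)))
      (((Algebra.TensorProduct.includeRight : FractionRing B →ₐ[FractionRing A] FractionRing B ⊗[FractionRing A] FractionRing B).restrictScalars A).comp (IsScalarTower.toAlgHom A B (FractionRing B)))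
      (fun _ _ => Commute.all _ _)
  have h1 := (hnil.map g).eq_zero
  have h2 : algebraMap B (FractionRing B) s ⊗ₜ[FractionRing A] (1 : FractionRing B) =
      (1 : FractionRing B) ⊗ₜ[FractionRing A] algebraMap B (FractionRing B) s := by
    rw [map_sub, sub_eq_zero] at h1
    simpa [g] using h1
  have h3 : algebraMap B (FractionRing B) s ∈ Set.range (algebraMap (FractionRing A) (FractionRing B)) := by
    rw [← (Algebra.IsEffective.of_faithfullyFlat (FractionRing A) (FractionRing B)).eqLocus_includeLeft_includeRight]
    exact h2
  obtain ⟨x, hx⟩ := h3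
  obtain ⟨a, b, hb, rfl⟩ := IsFractionRing.div_surjective (A := A) x
  refine ⟨a, b, nonZeroDivisors.ne_zero hb, hB ?_⟩
  rw [map_mul, ← hx, ← IsScalarTower.algebraMap_apply A B (FractionRing B),
    ← IsScalarTower.algebraMap_apply A B (FractionRing B), IsScalarTower.algebraMap_apply A (FractionRing A) (FractionRing B),
    ← map_mul, div_mul_cancel₀, ← IsScalarTower.algebraMap_apply]
  intro h
  rw [map_eq_zero_iff _ (IsFractionRing.injective A (FractionRing A))] at h
  exact nonZeroDivisors.ne_zero hb h

end Main

end K433.FibConst
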