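import Groth.Agent.S2324
import Groth.Agent.Smoothlim.LineSec
import Groth.Agent.Ega2.AmpleGlobGen
import Groth.Agent.Ega1.AmpFam
import Groth.Agent.Ega2.QCohLocal
import Groth.Agent.Grpsch.PicGrp

/-!
# Sections generating at finitely many points

* `exists_twist_section`: `X` quasi-compact and separated with an ample module, `Z` a finite set of points, `L`
  invertible.  There are an invertible `B` and sections of `B` and of `L ⊗ B` generating at all points of `Z`.
* `exists_twist_pic`: the same with classes in the Picard group, `g = a / b`.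
-/

set_option autoImplicit false
universe u
open CategoryTheory CategoryTheory.Limits AlgebraicGeometry Opposite TopologicalSpace

namespace K433.TwistSec

open Groth.Agent Groth.Agent.Ega2 Groth.Agent.Fdesc.LocGen

variable {X : Scheme.{u}}

theorem exists_twist_section [CompactSpace X] [X.IsSeparated] {A : X.Modules} (hA : CohB1.IsAmple A)
    (Z : Set X) (hZ : Z.Finite) {L : X.Modules} (hL : PicF.IsInvertible L) :
    ∃ (B : X.Modules) (_ : PicF.IsInvertible B) (s : Coh.structureModule X ⟶ B)
      (s' : Coh.structureModule X ⟶ CohB1.tensorMod L B),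
      Z ⊆ CohB1.genLocus B s ∧ Z ⊆ CohB1.genLocus _ s' := by
  obtain ⟨N, hNi, s, hZs, haff⟩ : ∃ (N : X.Modules) (_ : PicF.IsInvertible N) (s : Coh.structureModule X ⟶ N),
      Z ⊆ CohB1.genLocus N s ∧ IsAffineOpen (CohB1.genLocus N s) := by
    obtain ⟨n, s, hZs, -, haff⟩ := S2324.result X A hA Z hZ ⊤ (fun _ _ => trivial)
    exact ⟨_, isInvertible_tensorPow hA.1 _, s, hZs, haff⟩
  obtain ⟨t, ht⟩ := Smoothlim.LineSec.exists_genAt_finite hL haff Z hZ (fun x hx => hZs hx)
  have hLq : Coh.IsQCoh L := Ega2.QCohLocal.isQCoh_of_isInvertible hL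
  obtain ⟨m, hm⟩ := Ega2.AmpleGlobGen.exists_extend_top hLq hNi s t
  obtain ⟨t', ht'⟩ := hm (m + 1) (Nat.le_succ m)
  refine ⟨CohB1.tensorPow N (m + 1), isInvertible_tensorPow hNi _, powHom s (m + 1), homOf t', ?_, ?_⟩
  · rw [genLocus_powHom hNi]
    exact hZs
  · intro x hx
    obtain ⟨U, hU, hxU, hg⟩ := ht x hx
    refine (mem_genLocus_iff _ x).mpr ⟨U, hxU, ?_⟩
    rw [sec_homOf, ← res_res _ (le_top : CohB1.genLocus N s ≤ ⊤) hU, ht', res_tmul]
    have h1 : IsGen (res L hU t) := hg
    exact h1.tmul (((isGen_sec_genLocus s).pow (m + 1)).res hU)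

/-- Every class is a quotient of two classes of modules with sections generating at finitely many given points. -/
theorem exists_twist_pic [CompactSpace X] [X.IsSeparated] {A : X.Modules} (hA : CohB1.IsAmple A)
    (Z : Set X) (hZ : Z.Finite) (g : Grpsch.PicGrp.Pic X) :
    ∃ (B B' : X.Modules) (hB : PicF.IsInvertible B) (hB' : PicF.IsInvertible B')
      (s : Coh.structureModule X ⟶ B) (s' : Coh.structureModule X ⟶ B'),
      Grpsch.PicGrp.mk B' hB' = g * Grpsch.PicGrp.mk B hB ∧ Z ⊆ CohB1.genLocus B s ∧ Z ⊆ CohB1.genLocus B' s' := by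
  obtain ⟨L, hL, rfl⟩ := Grpsch.PicGrp.exists_mk g
  obtain ⟨B, hB, s, s', h, h'⟩ := exists_twist_section hA Z hZ hL
  exact ⟨B, CohB1.tensorMod L B, hB, isInvertible_tensorMod hL hB, s, s', rfl, h, h'⟩

end K433.TwistSec
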