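import Groth.Agent.Variety.K433.HqBase
import Groth.Agent.Variety.K433.TwistSec
import Groth.Agent.Fga.HypSec

/-!
# Growth of cohomology of twists

`f : Y ⟶ X` a closed map, `Y` proper over a field `k`, `X` quasi-compact, separated, with an ample module;
`F` coherent on `Y` with `dim f(Supp F) < e`.
* `exists_diff`: for a class `g` on `X`, `h^q(F ⊗ g ⊗ c)` and `h^q(F ⊗ c)` differ by the cohomology of twists of two
  coherent modules `G` with `dim f(Supp G) < e - 1`, uniformly in the class `c`.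
* `bound_list`: `h^q(F ⊗ f^*(g_{i_1} ⋯ g_{i_N})) ≤ C (1+N)^{e-1}`.
* `near_list`: `h^q(F ⊗ f^*(g g_{i_1} ⋯ g_{i_N}))` and `h^q(F ⊗ f^*(g_{i_1} ⋯ g_{i_N}))` differ by at most
  `C (1+N)^{e-2}`.
-/

set_option autoImplicit false
universe u v
open CategoryTheory CategoryTheory.Limits AlgebraicGeometry Opposite TopologicalSpace

namespace K433.Growth

open Groth.Agent Groth.Agent.Ega2 Groth.Agent.Fdesc.LocGen Groth.Agent.Fga.RegSec
open Groth.Agent.CohqB.SerTw Groth.Agent.Grpsch.PicGrp K433.Hq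
open Groth.Agent.Pic13.H946.Core (cokSeq cokSeq_shortExact finrank_congr support_tw)

/-! ### Dimension -/

/-- A closed subset `T \ W` of a closed set `T`, where the open `W` meets every irreducible component of `T`. -/
theorem dim_diff_lt {X : Type*} [TopologicalSpace X] {T : Set X} (W : Set X) (hW : IsOpen W)
    (hmeet : ∀ Z ∈ irreducibleComponents T, ∃ z ∈ Z, (z : X) ∈ W) {e : ℕ}
    (hT : topologicalKrullDim T < ((e + 1 : ℕ) : WithBot ℕ∞)) :
    topologicalKrullDim (T \ W : Set X) < (e : WithBot ℕ∞) := by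
  by_contra hcon
  rw [not_lt] at hcon
  let D : Set T := Subtype.val ⁻¹' Wᶜ
  have hD : IsClosed D := hW.isClosed_compl.preimage continuous_subtype_val
  let g : (T \ W : Set X) → D := fun x => ⟨⟨x.1, x.2.1⟩, x.2.2⟩
  have hg : Topology.IsInducing g := by
    have e : Topology.IsInducing (fun x : (T \ W : Set X) => x.1) := Topology.IsInducing.subtypeVal
    have e2 : Topology.IsInducing (fun d : D => (d.1 : X)) :=
      Topology.IsInducing.subtypeVal.comp Topology.IsInducing.subtypeVal
    exact (e2.of_comp_iff).mp e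
  have h1 := hcon.trans hg.topologicalKrullDim_le
  unfold topologicalKrullDim at h1
  rw [Order.le_krullDim_iff] at h1
  obtain ⟨p, hp⟩ := h1
  have h2 := Fga.DimCut.length_succ_le_of_forall_not_subset D hD (fun Z hZ hsub => by
    obtain ⟨z, hz, hzW⟩ := hmeet Z hZ
    exact hsub hz hzW) p
  rw [hp] at h2
  exact absurd (h2.trans_lt hT) (lt_irrefl _)

theorem topologicalKrullDim_nonneg {X : Type*} [TopologicalSpace X] [Nonempty X] :
    (0 : WithBot ℕ∞) ≤ topologicalKrullDim X := by
  obtain ⟨x⟩ := ‹Nonempty X›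
  have : Nonempty (IrreducibleCloseds X) := ⟨⟨closure {x}, isIrreducible_singleton.closure, isClosed_closure⟩⟩
  exact Order.krullDim_nonneg

theorem topologicalKrullDim_lt_zero {X : Type*} [TopologicalSpace X] [IsEmpty X] :
    topologicalKrullDim X < (0 : WithBot ℕ∞) := by
  have : IsEmpty (IrreducibleCloseds X) := ⟨fun Z => by
    obtain ⟨x, _⟩ := Z.isIrreducible.nonempty
    exact isEmptyElim x⟩
  rw [topologicalKrullDim, Order.krullDim_eq_bot]
  exact WithBot.bot_lt_coe _

theorem noetherianSpace_image {X Y : Type*} [TopologicalSpace X] [TopologicalSpace Y] [NoetherianSpace Y]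
    (f : Y → X) (hf : Continuous f) (S : Set Y) : NoetherianSpace (f '' S) := by
  have h := NoetherianSpace.range (f ∘ (Subtype.val : S → Y)) (hf.comp continuous_subtype_val)
  rwa [Set.range_comp, Subtype.range_coe] at h

variable {X Y : Scheme.{u}}

/-- `dim f(Supp F) < e`. -/
def DimLT (f : Y ⟶ X) (e : ℕ) (F : Y.Modules) : Prop :=
  topologicalKrullDim (f '' CohB1.support F) < (e : WithBot ℕ∞)

theorem DimLT.mono_support {f : Y ⟶ X} {e : ℕ} {F G : Y.Modules} (h : DimLT f e F)
    (hs : CohB1.support G ⊆ CohB1.support F) : DimLT f e G :=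
  (Fga.DimLt.topologicalKrullDim_mono (Set.image_mono hs)).trans_lt h

theorem DimLT.mono {f : Y ⟶ X} {e e' : ℕ} {F : Y.Modules} (h : DimLT f e F) (he : e ≤ e') : DimLT f e' F :=
  lt_of_lt_of_le h (by exact_mod_cast he)

theorem dimLT_zero_iff {f : Y ⟶ X} {F : Y.Modules} : DimLT f 0 F ↔ CohB1.support F = ∅ := by
  unfold DimLT
  constructor
  · intro h
    by_contra hne
    have : Nonempty (f '' CohB1.support F) :=
      (Set.nonempty_iff_ne_empty.mpr hne).image f |>.to_subtype
    have h1 : (0 : WithBot ℕ∞) ≤ topologicalKrullDim (f '' CohB1.support F) := topologicalKrullDim_nonneg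
    exact absurd (h1.trans_lt h) (lt_irrefl _)
  · intro h
    rw [h, Set.image_empty]
    exact topologicalKrullDim_lt_zero

theorem DimLT.tensor {f : Y ⟶ X} {e : ℕ} {F : Y.Modules} (h : DimLT f e F) {N : Y.Modules}
    (hN : PicF.IsInvertible N) : DimLT f e (CohB1.tensorMod F N) := by
  unfold DimLT; rwa [support_tw hN]

variable (k : Type u) [Field k] [Y.Over (Spec (CommRingCat.of k))]
  [IsProper (Y ↘ Spec (CommRingCat.of k))]

/-- Multiplication by a section generating at the associated points. -/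
theorem mulS_near {B : Y.Modules} (hB : PicF.IsInvertible B) (s : Coh.structureModule Y ⟶ B)
    {F : Y.Modules} (hF : Coh.IsCoh F) (hAss : AssSch.Ass F ⊆ CohB1.genLocus B s) :
    Coh.IsCoh (cokernel (mulS s F)) ∧ CohB1.support (cokernel (mulS s F)) = CohB1.support F \ CohB1.genLocus B s ∧
      ∀ (q : ℕ) (c : Pic Y), Near (hq k q F (mk B hB * c)) (hq k q F c)
        (hq k (q - 1) (cokernel (mulS s F)) c + hq k q (cokernel (mulS s F)) c) := by
  have := Fga.HypSec.isNoetherian k Y
  have hBF : Coh.IsCoh (CohB1.tensorMod B F) :=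
    Sga67.CohBasic.isCoh_of_iso (Ega2.Tens.swap F _) (Fga.TwistCoh.isCoh_tensor hF hB)
  have hmono : Mono (mulS s F) := mulS_mono s F hF (Sga67.CohBasic.isCoh_kernel _ hF hBF.1).1 hAss
  have hC : Coh.IsCoh (cokernel (mulS s F)) := isCoh_cokernel (mulS s F) hF.1 hBF
  refine ⟨hC, support_cokernel_mulS s F hB hF.2, fun q c => ?_⟩
  have h := near_left k (cokSeq_shortExact (mulS s F)) hF hBF hC q c
  have e : hq k q (cokSeq (mulS s F)).X₂ c = hq k q F (mk B hB * c) := hq_tensor' k q F hB c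
  rw [e] at h
  exact h.symm

/-- Twisting by a fixed class changes the cohomology by the cohomology of modules of smaller support. -/
theorem exists_diff [CompactSpace X] [X.IsSeparated] {A : X.Modules} (hA : CohB1.IsAmple A) (f : Y ⟶ X)
    (hf : IsClosedMap f) {F : Y.Modules} (hF : Coh.IsCoh F) {e : ℕ} (he : DimLT f (e + 1) F) (g : Pic X) :
    ∃ G₁ G₂ : Y.Modules, Coh.IsCoh G₁ ∧ Coh.IsCoh G₂ ∧ DimLT f e G₁ ∧ DimLT f e G₂ ∧
      ∀ (q : ℕ) (c : Pic Y), Near (hq k q F (pull f g * c)) (hq k q F c)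
        ((hq k (q - 1) G₁ c + hq k q G₁ c) + (hq k (q - 1) G₂ c + hq k q G₂ c)) := by
  have := Fga.HypSec.isNoetherian k Y
  set T : Set X := f '' CohB1.support F with hTdef
  have hT : IsClosed T := hf _ (S0020.result Y F hF.2)
  have hTn : NoetherianSpace T := noetherianSpace_image f f.continuous _
  have hcomp : (irreducibleComponents T).Finite := NoetherianSpace.finite_irreducibleComponents
  have hfc : Finite (irreducibleComponents T) := hcomp
  have hch : ∀ Z : irreducibleComponents T, ∃ z : T, z ∈ Z.1 := fun Z => Z.2.1.nonempty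
  choose z hz using hch
  obtain ⟨B, B', hB, hB', s, s', hg, hZ, hZ'⟩ := K433.TwistSec.exists_twist_pic hA
    (f '' AssSch.Ass F ∪ Set.range fun Z => (z Z : X))
    (((Fdesc.SubFilt.finite_ass hF).image f).union (Set.finite_range _)) g
  -- the two cokernels
  have hdim : ∀ {N : X.Modules} (hN : PicF.IsInvertible N) (t : Coh.structureModule X ⟶ N),
      (f '' AssSch.Ass F ∪ Set.range fun Z => (z Z : X)) ⊆ CohB1.genLocus N t →
      ∀ G : Y.Modules, CohB1.support G = CohB1.support F \ CohB1.genLocus _ (pullHom f t) → DimLT f e G := by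
    intro N hN t ht G hG
    have h1 : f '' CohB1.support G ⊆ T \ CohB1.genLocus N t := by
      rintro _ ⟨y, hy, rfl⟩
      rw [hG, Ega1.AmpFam.genLocus_pullHom f hN t] at hy
      exact ⟨⟨y, hy.1, rfl⟩, hy.2⟩
    refine (Fga.DimLt.topologicalKrullDim_mono h1).trans_lt ?_
    refine dim_diff_lt (CohB1.genLocus N t : Set X) (CohB1.genLocus N t).isOpen ?_ he
    intro Z' hZ'
    exact ⟨z ⟨Z', hZ'⟩, hz ⟨Z', hZ'⟩, ht (Or.inr ⟨⟨Z', hZ'⟩, rfl⟩)⟩
  have hass : ∀ {N : X.Modules} (hN : PicF.IsInvertible N) (t : Coh.structureModule X ⟶ N),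
      (f '' AssSch.Ass F ∪ Set.range fun Z => (z Z : X)) ⊆ CohB1.genLocus N t →
      AssSch.Ass F ⊆ CohB1.genLocus _ (pullHom f t) := by
    intro N hN t ht y hy
    rw [Ega1.AmpFam.genLocus_pullHom f hN t]
    exact ht (Or.inl ⟨y, hy, rfl⟩)
  have hfB := isInvertible_pullback f hB
  have hfB' := isInvertible_pullback f hB'
  obtain ⟨hC, hCs, hn⟩ := mulS_near k hfB (pullHom f s) hF (hass hB s hZ)
  obtain ⟨hC', hCs', hn'⟩ := mulS_near k hfB' (pullHom f s') hF (hass hB' s' hZ')
  set b : Pic Y := mk _ hfB with hb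
  set b' : Pic Y := mk _ hfB' with hb'
  have hbb : b' = pull f g * b := by
    rw [hb, hb', ← pull_mk f hB, ← pull_mk f hB', hg, map_mul]
  refine ⟨CohB1.tensorMod (cokernel (mulS (pullHom f s') F)) (rep b⁻¹),
    CohB1.tensorMod (cokernel (mulS (pullHom f s) F)) (rep b⁻¹), Fga.TwistCoh.isCoh_tensor hC' (rep_inv _),
    Fga.TwistCoh.isCoh_tensor hC (rep_inv _), (hdim hB' s' hZ' _ hCs').tensor (rep_inv _),
    (hdim hB s hZ _ hCs).tensor (rep_inv _), fun q c => ?_⟩
  have h1 := hn' q (b⁻¹ * c)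
  have h2 := hn q (b⁻¹ * c)
  rw [hbb] at h1
  have e1 : pull f g * b * (b⁻¹ * c) = pull f g * c := by
    rw [mul_assoc, mul_inv_cancel_left]
  rw [e1] at h1
  rw [mul_inv_cancel_left] at h2
  rw [hq_tensor k _ _ (rep_inv _), hq_tensor k _ _ (rep_inv _), hq_tensor k _ _ (rep_inv _),
    hq_tensor k _ _ (rep_inv _), mk_rep]
  exact h1.trans h2.symm

end K433.Growth
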