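import Groth.Agent.CycB.PushLen
import Groth.Agent.CycB.SetupLft
import Groth.Agent.CycB.DegReduce
import Groth.Agent.CycB.RelDim
import Groth.Agent.VarietyA.DegRank

/-!
# Generic rank of a pushforward along a generically finite morphism (helper433)

* `eq_genericPoint_of_map`: the generic point is the only point of the generic fibre;
* `rk_push`: `rk (f_* G) = rk G * deg f`.
-/

set_option autoImplicit false
universe u

open CategoryTheory AlgebraicGeometry TopologicalSpace

namespace K433.PushRank

open Groth.Agent Groth.Agent.CycB Groth.Agent.CycB.RelDim Groth.Agent.VarietyA.DegRank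

/-- Dimension functions are compatible with a factor of a composition. -/
theorem deltaCompat_of_comp {X Y S : Scheme.{u}} (p : X ⟶ Y) (f : Y ⟶ S) {δX : X → ℤ}
    {δY : Y → ℤ} {δS : S → ℤ} (h : Cyc.DeltaCompat (p ≫ f) δX δS)
    (h' : Cyc.DeltaCompat f δY δS) : Cyc.DeltaCompat p δX δY := by
  rw [deltaCompat_iff] at h h' ⊢
  intro x
  obtain ⟨n, hn, hn'⟩ := h x
  obtain ⟨m, hm, hm'⟩ := h' (p x)
  rw [rtd_comp, hm] at hn
  have hlt : rtd p x < Cardinal.aleph0 := by
    refine lt_of_le_of_lt ?_ (Cardinal.natCast_lt_aleph0 (n := n))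
    rw [← hn]; exact le_add_self
  obtain ⟨l, hl⟩ := Cardinal.lt_aleph0.mp hlt
  refine ⟨l, hl, ?_⟩
  rw [hl] at hn
  have : m + l = n := by exact_mod_cast hn
  rw [hn', hm', ← this]
  have e : (p ≫ f) x = f (p x) := rfl
  rw [e]
  push_cast
  ring

/-- A dimension function does not jump at a point with finite residue extension. -/
theorem delta_eq_of_residueDegree_pos {X Y : Scheme.{u}} (f : X ⟶ Y) {δX : X → ℤ} {δY : Y → ℤ}
    (hδ : Cyc.DeltaCompat f δX δY) (x : X) (h : 0 < f.residueDegree x) : δX x = δY (f x) := by
  obtain ⟨n, hn, hx⟩ := hδ x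
  let i : Algebra (Y.residueField (f x)) (X.residueField x) := (f.residueFieldMap x).hom.toAlgebra
  have hfin : Module.Finite (Y.residueField (f x)) (X.residueField x) :=
    Module.finite_of_finrank_pos h
  have h0 : Algebra.trdeg (Y.residueField (f x)) (X.residueField x) = 0 :=
    trdeg_eq_zero_iff.mpr inferInstance
  have h1 : (n : Cardinal) = 0 := by rw [← hn]; exact h0
  have h2 : n = 0 := by exact_mod_cast h1
  rw [hx, h2]; simp

/-- The generic point is the only point of the generic fibre of a generically finite morphism of varieties. -/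
theorem eq_genericPoint_of_map (k : Type u) [Field k] {X Y : Scheme.{u}} [IsIntegral X] [IsIntegral Y]
    (gX : X ⟶ Spec (CommRingCat.of k)) (gY : Y ⟶ Spec (CommRingCat.of k)) [LocallyOfFiniteType gX]
    [LocallyOfFiniteType gY] (f : Y ⟶ X) (hf : f ≫ gX = gY) (hdom : f (genericPoint Y) = genericPoint X)
    (hd : 0 < f.residueDegree (genericPoint Y)) (y : Y) (hy : f y = genericPoint X) : y = genericPoint Y := by
  obtain ⟨δX, hX⟩ := SetupLft.exists_deltaCompat gX (fun _ => 0)
  obtain ⟨δY, hY⟩ := SetupLft.exists_deltaCompat gY (fun _ => 0)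
  have h := deltaCompat_of_comp (δX := δY) (δY := δX) (δS := fun _ => 0) f gX (by rwa [hf]) hX
  by_contra hne
  have h1 := DegReduce.lt_of_specializes k gY δY hY (genericPoint_specializes y) (Ne.symm hne)
  have h2 := delta_eq_of_residueDegree_pos f h _ hd
  obtain ⟨n, -, hn⟩ := h y
  rw [hy] at hn
  rw [hdom] at h2
  omega

theorem finite_residueFieldMap {X Y : Scheme.{u}} (f : X ⟶ Y) (x : X) (h : 0 < f.residueDegree x) :
    (f.residueFieldMap x).hom.Finite := by
  let i : Algebra (Y.residueField (f x)) (X.residueField x) := (f.residueFieldMap x).hom.toAlgebra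
  have hfin : Module.Finite (Y.residueField (f x)) (X.residueField x) :=
    Module.finite_of_finrank_pos h
  exact hfin

/-- The generic rank of a coherent module is the length of its generic stalk. -/
theorem length_eq_rk {X : Scheme.{u}} [IsIntegral X] [IsLocallyNoetherian X] {F : X.Modules} (hF : Coh.IsCoh F) :
    Module.length (X.presheaf.stalk (genericPoint X)) (F.presheaf.stalk (genericPoint X)) = (rk F : ℕ∞) := by
  let iF : Field (X.presheaf.stalk (genericPoint X)) := inferInstanceAs (Field X.functionField)
  have hfin := Groth.Agent.Ega3B.Devissage.isNoetherian_stalk hF (genericPoint X)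
  exact Module.length_eq_finrank (X.presheaf.stalk (genericPoint X)) (F.presheaf.stalk (genericPoint X))

/-- **Generic rank of a pushforward.** -/
theorem rk_push {X Y : Scheme.{u}} [IsIntegral X] [IsLocallyNoetherian X] [IsIntegral Y] [IsLocallyNoetherian Y]
    (f : Y ⟶ X) [QuasiCompact f] (hcl : IsClosedMap f) (hdom : f (genericPoint Y) = genericPoint X)
    (hfib : ∀ y, f y = genericPoint X → y = genericPoint Y)
    (hd : 0 < f.residueDegree (genericPoint Y)) {G : Y.Modules} (hG : Coh.IsCoh G)
    (hfG : Coh.IsCoh ((Coh.push f).obj G)) :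
    rk ((Coh.push f).obj G) = rk G * f.residueDegree (genericPoint Y) := by
  obtain ⟨hS, hlen⟩ := PushLen.length_push_stalk f hcl G Set.univ isClosed_univ
    (fun x hx => absurd (Set.mem_univ x) hx) (genericPoint X)
    (fun x _ hx x' _ hs => by
      rw [hfib x hx] at hs ⊢
      exact (hs.antisymm (genericPoint_specializes x')).eq)
    (fun x _ hx => by rw [hfib x hx]; exact finite_residueFieldMap f _ hd)
  have hSe : hS.toFinset = {genericPoint Y} := by
    ext y
    rw [Set.Finite.mem_toFinset, Finset.mem_singleton]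
    exact ⟨fun h => hfib y h.1, fun h => ⟨by rw [h, hdom], trivial⟩⟩
  rw [hSe, Finset.sum_singleton, length_eq_rk hfG, length_eq_rk hG] at hlen
  exact_mod_cast hlen

end K433.PushRank
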